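import Mathlib.GroupTheory.Transfer
import Mathlib.GroupTheory.Frattini
import Mathlib.GroupTheory.IsPerfect
import Cfsg.Prelude.Def_HallClasses
import Cfsg.Agent.H63.GW.Hereditary
import Cfsg.Agent.H77.FittingClass
import Cfsg.Agent.S0205

/-!
π-homogeneous groups (`π` odd primes) with abelian or dihedral Sylow 2-subgroups: the reduction to
the non-abelian simple quotient of a perfect group.
-/

set_option autoImplicit false
set_option linter.unusedSectionVars false
set_option linter.style.haveILetI false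

namespace Cfsg.Agent.H72.PiHom

open Subgroup Cfsg.Agent

universe u

variable {π : Set ℕ}

/-- `x` is a `π'`-element. -/
def PiPrimeElt (π : Set ℕ) {G : Type*} [Group G] (x : G) : Prop :=
  ∀ p : ℕ, p.Prime → p ∣ orderOf x → p ∉ π

/-- The `π'`-elements form a subgroup. -/
def Closed (π : Set ℕ) (G : Type*) [Group G] : Prop :=
  ∃ K : Subgroup G, ∀ x : G, x ∈ K ↔ PiPrimeElt π x

/-- `π'`-elements normalising a π-subgroup centralise it. -/
def Cent (π : Set ℕ) (G : Type*) [Group G] : Prop :=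
  ∀ H : Subgroup G, Cfsg.IsPiSubgroup π H → ∀ g ∈ normalizer (H : Set G), PiPrimeElt π g →
    g ∈ centralizer (H : Set G)

/-- Elements of prime power order, prime outside `π`, normalising a `p`-subgroup, `p` in `π`,
centralise it. -/
def CentP (π : Set ℕ) (G : Type*) [Group G] : Prop :=
  ∀ p ∈ π, ∀ Q : Subgroup G, IsPGroup p Q → ∀ r : ℕ, r.Prime → r ∉ π →
    ∀ g ∈ normalizer (Q : Set G), (∃ k, g ^ r ^ k = 1) → g ∈ centralizer (Q : Set G)

/-- Abelian or dihedral Sylow 2-subgroups. -/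
def Syl2 (G : Type*) [Group G] : Prop :=
  ∀ S : Sylow 2 G, IsMulCommutative S ∨ ∃ n : ℕ, Nonempty ((S : Subgroup G) ≃* DihedralGroup n)

section

variable {G : Type u} [Group G]

theorem piPrime_coe {H : Subgroup G} (x : H) : PiPrimeElt π (x : G) ↔ PiPrimeElt π x := by
  simp [PiPrimeElt, Subgroup.orderOf_coe]

theorem piPrime_of_dvd {x : G} {n : ℕ} (hn : ∀ p : ℕ, p.Prime → p ∣ n → p ∉ π)
    (h : orderOf x ∣ n) : PiPrimeElt π x := fun p hp hd => hn p hp (hd.trans h)

theorem piPrime_conj {x : G} (hx : PiPrimeElt π x) (g : G) : PiPrimeElt π (g * x * g⁻¹) := by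
  intro p hp hd
  refine hx p hp ?_
  rwa [show g * x * g⁻¹ = MulAut.conj g x by simp, MulEquiv.orderOf_eq] at hd

theorem piPrime_inv {x : G} (hx : PiPrimeElt π x) : PiPrimeElt π x⁻¹ := by
  intro p hp hd
  exact hx p hp (by rwa [orderOf_inv] at hd)

theorem piPrime_mul_of_commute {x y : G} (h : Commute x y) (hx : PiPrimeElt π x)
    (hy : PiPrimeElt π y) : PiPrimeElt π (x * y) := by
  intro p hp hd
  rcases hp.dvd_mul.1 ((hd.trans h.orderOf_mul_dvd_lcm).trans (Nat.lcm_dvd_mul _ _)) with h' | h'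
  · exact hx p hp h'
  · exact hy p hp h'

/-- An element whose order is a power of a prime outside `π`. -/
theorem piPrime_of_pow {r : ℕ} (hr : r.Prime) (hrπ : r ∉ π) {x : G} {k : ℕ} (h : x ^ r ^ k = 1) :
    PiPrimeElt π x := fun p hp hd => by
  rw [(Nat.prime_dvd_prime_iff_eq hp hr).1 (hp.dvd_of_dvd_pow (hd.trans (orderOf_dvd_of_pow_eq_one h)))]
  exact hrπ

variable [Finite G]

theorem isPiSubgroup_of_isPGroup {p : ℕ} (hp : p ∈ π) (hpp : p.Prime) {H : Subgroup G}
    (hH : IsPGroup p H) : Cfsg.IsPiSubgroup π H := by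
  haveI := Fact.mk hpp
  intro r hr hd
  obtain ⟨n, hn⟩ := hH.exists_card_eq
  rw [hn] at hd
  rw [(Nat.prime_dvd_prime_iff_eq hr hpp).1 (hr.dvd_of_dvd_pow hd)]
  exact hp

theorem piPrime_of_mem {H : Subgroup G} (hH : ∀ p ∈ π, ¬ p ∣ Nat.card H) {x : G} (hx : x ∈ H) :
    PiPrimeElt π x := fun p _ hd hpπ => hH p hpπ (hd.trans (Subgroup.orderOf_dvd_natCard H hx))

theorem cent_subgroup (hc : Cent π G) (X : Subgroup G) : Cent π X := by
  intro H hH g hg hgπ
  have hH' : Cfsg.IsPiSubgroup π (H.map X.subtype) := fun r hr hd => hH r hr (by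
    rwa [Subgroup.card_map_of_injective X.subtype_injective] at hd)
  have hg' : (g : G) ∈ normalizer (((H.map X.subtype : Subgroup G)) : Set G) := by
    refine mem_normalizer_fintype fun b hb => ?_
    obtain ⟨b, hb', rfl⟩ := hb
    exact ⟨g * b * g⁻¹, (mem_normalizer_iff.1 hg b).1 hb', rfl⟩
  have := hc _ hH' g hg' ((piPrime_coe g).2 hgπ)
  rw [mem_centralizer_iff] at this ⊢
  intro b hb
  exact Subtype.ext (this b ⟨b, hb, rfl⟩)

theorem syl2_subgroup (hs : Syl2 G) (X : Subgroup G) : Syl2 X := by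
  intro S
  obtain ⟨T, hT⟩ := (S.isPGroup'.map X.subtype).exists_le_sylow
  let f : (S : Subgroup X) →* (T : Subgroup G) :=
    ((X.subtype.comp (S : Subgroup X).subtype).codRestrict (T : Subgroup G)
      fun x => hT ⟨x, x.2, rfl⟩)
  have hf : Function.Injective f := fun a b e =>
    Subtype.ext (X.subtype_injective (congrArg Subtype.val e :))
  have hcomm : IsMulCommutative (T : Subgroup G) → IsMulCommutative (S : Subgroup X) := fun h =>
    ⟨⟨fun a b => hf (by rw [map_mul, map_mul]; exact h.is_comm.comm _ _)⟩⟩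
  rcases hs T with h | ⟨n, ⟨e⟩⟩
  · exact Or.inl (hcomm h)
  rcases lt_or_ge n 2 with hn | hn
  · interval_cases n
    · haveI : Finite (DihedralGroup 0) := Finite.of_equiv _ e.toEquiv
      exact absurd (Nat.card_pos (α := DihedralGroup 0)) (by rw [DihedralGroup.nat_card]; norm_num)
    · refine Or.inl (hcomm ⟨⟨fun a b => e.injective ?_⟩⟩)
      rw [map_mul, map_mul]
      generalize e a = a'
      generalize e b = b'
      revert a' b'
      decide
  · rcases (show H63.GW.DType (T : Subgroup G) from Or.inr ⟨n, hn, ⟨e⟩⟩).of_injective f hf with h | h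
    · obtain ⟨g, hg⟩ := h
      refine Or.inl ⟨⟨fun a b => ?_⟩⟩
      obtain ⟨i, rfl⟩ := hg a
      obtain ⟨j, rfl⟩ := hg b
      exact ((Commute.refl g).zpow_zpow i j).eq
    · obtain ⟨m, -, hm⟩ := h
      exact Or.inr ⟨m, hm⟩

/-- A subgroup containing a Sylow subgroup for every prime is the whole group. -/
theorem eq_top_of_sylow {H : Subgroup G}
    (h : ∀ p : ℕ, p.Prime → ∃ P : Sylow p G, (P : Subgroup G) ≤ H) : H = ⊤ := by
  refine Subgroup.eq_top_of_card_eq _ (Nat.dvd_antisymm (Subgroup.card_subgroup_dvd_card H) ?_)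
  refine (Nat.dvd_iff_prime_pow_dvd_dvd _ _).2 fun p k hp hk => ?_
  haveI := Fact.mk hp
  obtain ⟨P, hP⟩ := h p hp
  refine dvd_trans ?_ (Subgroup.card_dvd_of_le hP)
  rw [P.card_eq_multiplicity]
  exact pow_dvd_pow p ((hp.pow_dvd_iff_le_factorization Nat.card_pos.ne').1 hk)

/-- `G` is generated by `H` and a normal `π'`-subgroup `K`, and `H` is closed. -/
theorem closed_of_supplement {N K : Subgroup G} [K.Normal]
    (hK : ∀ p ∈ π, ¬ p ∣ Nat.card K) (hsup : N ⊔ K = ⊤) (hπ : ∀ p ∈ π, p.Prime)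
    (hN : Closed π N) : Closed π G := by
  obtain ⟨J, hJ⟩ := hN
  set J' := J.map N.subtype with hJ'
  have hJcard : ∀ p ∈ π, ¬ p ∣ Nat.card J' := by
    intro p hp hd
    haveI := Fact.mk (hπ p hp)
    rw [hJ', Subgroup.card_map_of_injective N.subtype_injective] at hd
    obtain ⟨x, hx⟩ := exists_prime_orderOf_dvd_card' p hd
    exact (hJ x).1 x.2 p (hπ p hp) (by rw [Subgroup.orderOf_coe, hx]) hp
  haveI hJn : J.Normal := ⟨fun x hx g => (hJ _).2 (piPrime_conj ((hJ x).1 hx) g)⟩
  set M := J' ⊔ K with hM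
  have hMcard : ∀ p ∈ π, ¬ p ∣ Nat.card M := by
    intro p hp hd
    have h1 : Nat.card M ∣ Nat.card J' * Nat.card K := by
      rw [hM, Subgroup.card_eq_card_quotient_mul_card_subgroup (K.subgroupOf (J' ⊔ K))]
      refine mul_dvd_mul ?_ ?_
      · rw [Nat.card_congr (QuotientGroup.quotientInfEquivProdNormalQuotient J' K).toEquiv.symm]
        exact Subgroup.card_quotient_dvd_card _
      · exact (Nat.card_congr (Subgroup.subgroupOfEquivOfLe le_sup_right).toEquiv).dvd
    rcases (hπ p hp).dvd_mul.1 (hd.trans h1) with h' | h'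
    · exact hJcard p hp h'
    · exact hK p hp h'
  haveI : M.Normal := by
    rw [← normalizer_eq_top_iff, eq_top_iff, ← hsup, sup_le_iff]
    refine ⟨fun n hn => mem_normalizer_fintype fun x hx => ?_, le_sup_right.trans le_normalizer⟩
    obtain ⟨a, ha, b, hb, rfl⟩ := mem_sup_of_normal_right.1 hx
    obtain ⟨a, ha', rfl⟩ := ha
    rw [show n * (N.subtype a * b) * n⁻¹ = n * N.subtype a * n⁻¹ * (n * b * n⁻¹) by group]
    exact mul_mem (mem_sup_left ⟨(⟨n, hn⟩ : N) * a * (⟨n, hn⟩ : N)⁻¹, hJn.conj_mem a ha' _, rfl⟩)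
      (mem_sup_right (Subgroup.Normal.conj_mem inferInstance b hb n))
  refine ⟨M, fun x => ⟨piPrime_of_mem hMcard, fun hx => ?_⟩⟩
  have hxm : orderOf (QuotientGroup.mk' M x) = 1 := by
    refine Nat.eq_one_iff_not_exists_prime_dvd.2 fun p hp hd => ?_
    haveI := Fact.mk hp
    have hpπ : p ∉ π := hx p hp (hd.trans (orderOf_map_dvd _ x))
    -- a `p`-element of `N` lies in `J`
    have hsurj : Function.Surjective ((QuotientGroup.mk' M).comp N.subtype) := by
      intro q
      obtain ⟨g, rfl⟩ := QuotientGroup.mk'_surjective M q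
      obtain ⟨a, ha, b, hb, rfl⟩ := mem_sup_of_normal_right.1
        (show g ∈ N ⊔ K from hsup ▸ mem_top g)
      refine ⟨⟨a, ha⟩, ?_⟩
      show QuotientGroup.mk' M a = QuotientGroup.mk' M (a * b)
      exact (QuotientGroup.eq).2 (by simpa using (mem_sup_right hb : b ∈ M))
    obtain ⟨P⟩ : Nonempty (Sylow p N) := inferInstance
    have hker : ((P : Subgroup N).map ((QuotientGroup.mk' M).comp N.subtype)) = ⊥ := by
      rw [eq_bot_iff]
      rintro _ ⟨a, ha, rfl⟩
      obtain ⟨k, hk⟩ := P.isPGroup' ⟨a, ha⟩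
      refine (QuotientGroup.eq_one_iff _).2 (mem_sup_left ⟨a, (hJ a).2 ?_, rfl⟩)
      exact piPrime_of_pow hp hpπ (congrArg Subtype.val hk)
    have hQ := (P.mapSurjective hsurj).dvd_card_of_dvd_card
      (hd.trans (orderOf_dvd_natCard _))
    rw [Sylow.coe_mapSurjective, hker, Subgroup.card_bot] at hQ
    exact hp.not_dvd_one hQ
  exact (QuotientGroup.eq_one_iff x).1 (orderOf_eq_one_iff.1 hxm)

theorem closed_of_commute (h : ∀ a b : G, Commute a b) : Closed π G := by
  refine ⟨{ carrier := {x | PiPrimeElt π x}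
            one_mem' := fun p hp hd => ?_
            mul_mem' := fun {a b} ha hb => piPrime_mul_of_commute (h a b) ha hb
            inv_mem' := piPrime_inv }, fun x => Iff.rfl⟩
  rw [orderOf_one] at hd
  exact absurd hd hp.not_dvd_one

/-- A normal π-subgroup of a group generated by its `π'`-elements is central. -/
theorem le_center (hc : Cent π G) (hgen : closure {x : G | PiPrimeElt π x} = ⊤) {H : Subgroup G}
    [H.Normal] (hH : Cfsg.IsPiSubgroup π H) : H ≤ center G := by
  have : closure {x : G | PiPrimeElt π x} ≤ centralizer (H : Set G) :=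
    (closure_le _).2 fun x hx => hc H hH x (by rw [normalizer_eq_top]; exact mem_top x) hx
  rw [hgen] at this
  intro a ha
  exact mem_center_iff.2 fun g => (mem_centralizer_iff.1 (this (mem_top g)) a ha).symm

/-- The π'-elements of `G` form a subgroup if those of a normal subgroup containing them do. -/
theorem closed_of_contains {L : Subgroup G} (hL : ∀ x : G, PiPrimeElt π x → x ∈ L)
    (h : Closed π L) : Closed π G := by
  obtain ⟨J, hJ⟩ := h
  refine ⟨J.map L.subtype, fun x => ⟨?_, fun hx => ?_⟩⟩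
  · rintro ⟨a, ha, rfl⟩
    exact (piPrime_coe a).2 ((hJ a).1 ha)
  · exact ⟨⟨x, hL x hx⟩, (hJ _).2 ((piPrime_coe _).1 hx), rfl⟩

/-- A subgroup of `π'`-elements has `π'`-order. -/
theorem card_of_closed {J : Subgroup G} (hπ : ∀ p ∈ π, p.Prime) (hJ : ∀ x ∈ J, PiPrimeElt π x) :
    ∀ p ∈ π, ¬ p ∣ Nat.card J := by
  intro p hp hd
  haveI := Fact.mk (hπ p hp)
  obtain ⟨x, hx⟩ := exists_prime_orderOf_dvd_card' p hd
  exact hJ x x.2 p (hπ p hp) (by rw [Subgroup.orderOf_coe, hx]) hp

end

end Cfsg.Agent.H72.PiHom
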