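import Cfsg.Agent.H10.Walter.Setting

/-!
The input about groups of type R needed for π-homogeneous groups.
-/

set_option autoImplicit false

namespace Cfsg.Agent.H72.PiHom

universe u

/-- In a simple group of type R every odd prime divisor of the order divides the order of a
`PSL₂` subgroup or is the order of a real element. -/
def TypeRHyp : Prop :=
  ∀ (X : Type u) [Group X] [Finite X], IsSimpleGroup X → H10.Walter.AbSyl X →
    H10.Walter.IsTypeR X → ∀ p : ℕ, p.Prime → p ≠ 2 → p ∣ Nat.card X →
      (∃ L : Subgroup X, H10.Walter.IsOddPSL ↥L ∧ p ∣ Nat.card L) ∨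
        ∃ x g : X, orderOf x = p ∧ g * x * g⁻¹ = x⁻¹

end Cfsg.Agent.H72.PiHom
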