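import Cfsg.Agent.H72.PiHom.Basic
import Cfsg.Agent.Linear.Mitchell.PSLTwo.Real
import Cfsg.Agent.Linear.Dickson.Orders
import Mathlib.NumberTheory.LegendreSymbol.QuadraticChar.Basic

/-!
In `PSL₂(q)` and `A₇` every odd prime divisor of the order is excluded from `π` by a local
automiser.
-/

set_option autoImplicit false
set_option linter.unusedSectionVars false
set_option linter.style.haveILetI false

namespace Cfsg.Agent.H72.PiHom

open Subgroup Cfsg.Agent
open Cfsg.Agent.Linear Cfsg.Agent.Linear.Dickson Cfsg.Agent.Linear.Mitchell.PSLTwo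

universe u v

variable {π : Set ℕ}

theorem centP_of_injective {X : Type u} {Y : Type v} [Group X] [Group Y] (h : CentP π Y)
    (f : X →* Y) (hf : Function.Injective f) : CentP π X := by
  intro p hp Q hQ r hr hrπ g hg ⟨k, hk⟩
  have hg' : f g ∈ normalizer ((Q.map f : Subgroup Y) : Set Y) :=
    le_normalizer_map f ⟨g, hg, rfl⟩
  have := h p hp (Q.map f) (hQ.map f) r hr hrπ (f g) hg' ⟨k, by rw [← map_pow, hk, map_one]⟩
  rw [mem_centralizer_iff] at this ⊢
  intro b hb
  exact hf (by rw [map_mul, map_mul]; exact this (f b) ⟨b, hb, rfl⟩)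

variable {X : Type u} [Group X] [Finite X]

/-- No element of order `p` in `π` is real. -/
theorem false_of_real (hπ : ∀ p ∈ π, p.Prime ∧ p ≠ 2) (h : CentP π X) {p : ℕ} (hp : p ∈ π)
    {x g : X} (hx : orderOf x = p) (hg : g * x * g⁻¹ = x⁻¹) : False := by
  obtain ⟨j, c, hc, hjc⟩ := Nat.exists_eq_pow_mul_and_not_dvd (orderOf_pos g).ne' 2 (by norm_num)
  have hpow : ∀ i : ℕ, g ^ i * x * (g ^ i)⁻¹ = if Even i then x else x⁻¹ := by
    intro i
    induction i with
    | zero => simp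
    | succ i ih =>
      rw [show g ^ (i + 1) * x * (g ^ (i + 1))⁻¹ = g * (g ^ i * x * (g ^ i)⁻¹) * g⁻¹ by
        rw [pow_succ']; group, ih]
      by_cases he : Even i
      · simp [he, Nat.even_add_one, hg]
      · simp only [he, Nat.even_add_one, if_false, not_false_iff, if_true]
        rw [← inv_inj, inv_inv] at hg
        nth_rewrite 2 [← hg]
        group
  have hinv : g ^ c * x * (g ^ c)⁻¹ = x⁻¹ := by
    rw [hpow, if_neg (fun h => hc (even_iff_two_dvd.1 h))]
  have hN : g ^ c ∈ normalizer ((zpowers x : Subgroup X) : Set X) := by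
    refine mem_normalizer_fintype fun b hb => ?_
    obtain ⟨i, rfl⟩ := hb
    exact ⟨-i, by show x ^ (-i) = g ^ c * x ^ i * (g ^ c)⁻¹; rw [← conj_zpow, hinv]; simp⟩
  haveI := Fact.mk (hπ p hp).1
  have hQ : IsPGroup p (zpowers x) :=
    IsPGroup.of_card (n := 1) (by rw [Nat.card_zpowers, hx, pow_one])
  have := mem_centralizer_iff.1 (h p hp _ hQ 2 Nat.prime_two (fun h2 => (hπ 2 h2).2 rfl) (g ^ c) hN
    ⟨j, by rw [← pow_mul, show c * 2 ^ j = 2 ^ j * c by ring, ← hjc, pow_orderOf_eq_one]⟩)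
    x (mem_zpowers x)
  have e : x = x⁻¹ := by rw [← hinv, ← this, mul_inv_cancel_right]
  have h2 : orderOf x ∣ 2 := orderOf_dvd_of_pow_eq_one (by
    rw [pow_two]; nth_rewrite 1 [e]; exact inv_mul_cancel x)
  rw [hx] at h2
  exact (hπ p hp).2 ((Nat.prime_dvd_prime_iff_eq (hπ p hp).1 Nat.prime_two).1 h2)

section PSL

variable {K : Type*} [Field K] [Fintype K]

local notation "P2" => Matrix.ProjectiveSpecialLinearGroup (Fin 2) K

theorem exists_inverter_nonUni {x : P2} (hx : ¬ IsUni x) : ∃ g : P2, g * x * g⁻¹ = x⁻¹ := by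
  classical
  obtain ⟨w, -, -, -, hw⟩ := exists_torus_inverter hx
  exact ⟨w, hw x (mem_cen_self x)⟩

theorem psl_none (hπ : ∀ p ∈ π, p.Prime ∧ p ≠ 2) (h : CentP π P2) (hK : 4 ≤ Fintype.card K) :
    ∀ p ∈ π, ¬ p ∣ Nat.card P2 := by
  classical
  intro p hp hd
  haveI := Fact.mk (hπ p hp).1
  obtain ⟨x, hx⟩ := exists_prime_orderOf_dvd_card' p hd
  by_cases hu : IsUni x
  swap
  · obtain ⟨g, hg⟩ := exists_inverter_nonUni hu
    exact false_of_real hπ h hp hx hg
  obtain ⟨r₀, hr₀⟩ := CharP.exists K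
  haveI := hr₀
  haveI : Fact r₀.Prime := ⟨CharP.char_is_prime K r₀⟩
  have hpr : p = r₀ := by
    have h1 := orderOf_dvd_of_pow_eq_one (pow_char_eq_one_of_isUni r₀ hu)
    rw [hx] at h1
    exact (Nat.prime_dvd_prime_iff_eq (hπ p hp).1 Fact.out).1 h1
  subst hpr
  have h2 : (2 : K) ≠ 0 := fun e => (hπ p hp).2 (by
    have := (CharP.cast_eq_zero_iff K p 2).1 (by exact_mod_cast e)
    exact (Nat.prime_dvd_prime_iff_eq (hπ p hp).1 Nat.prime_two).1 this)
  by_cases hsq : IsSquare (-1 : K)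
  · obtain ⟨g, hg⟩ := exists_inverter' h2 x (Or.inr hsq)
    exact false_of_real hπ h hp hx hg
  have h34 : Fintype.card K % 4 = 3 := by
    by_contra hne
    exact hsq (FiniteField.isSquare_neg_one_iff.2 hne)
  obtain ⟨r, hr, hrd⟩ := Nat.exists_prime_and_dvd (n := (Fintype.card K - 1) / 2) (by omega)
  have hr2 : r ≠ 2 := by rintro rfl; obtain ⟨c, hc⟩ := hrd; omega
  haveI := Fact.mk hr
  obtain ⟨z, hz⟩ := exists_prime_orderOf_dvd_card' (G := Kˣ) r (by
    rw [Nat.card_units, Nat.card_eq_fintype_card]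
    exact hrd.trans (Nat.div_dvd_of_dvd (by omega)))
  have hzz : (z : K) * z ≠ 1 := by
    intro e
    have : orderOf z ∣ 2 := orderOf_dvd_of_pow_eq_one (Units.ext (by
      rw [Units.val_pow_eq_pow_val, pow_two]; exact e))
    rw [hz] at this
    exact hr2 ((Nat.prime_dvd_prime_iff_eq hr Nat.prime_two).1 this)
  have hne : torEl z * upU (1 : K) * (torEl z)⁻¹ ≠ upU 1 := by
    rw [torEl_conj, mul_one]
    exact fun e => hzz (upU_injective e)
  let T : Kˣ →* P2 := MonoidHom.mk' torEl fun a b => by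
    rw [torEl, torEl, torEl, ← map_mul]
    congr 1
    apply Subtype.ext
    rw [Matrix.SpecialLinearGroup.coe_mul]
    ext i j
    fin_cases i <;> fin_cases j <;>
      simp [torSL_coe, Matrix.mul_apply, Fin.sum_univ_two, mul_comm]
  have htz : torEl z ^ r = 1 := by
    show T z ^ r = 1
    rw [← map_pow, ← hz, pow_orderOf_eq_one, map_one]
  by_cases hrπ : r ∈ π
  · have ht1 : torEl z ≠ 1 := fun e => hne (by rw [e]; group)
    have ho := orderOf_eq_prime htz ht1
    have hnu : ¬ IsUni (torEl z) := fun e => by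
      have h1 := orderOf_dvd_of_pow_eq_one (pow_char_eq_one_of_isUni p e)
      rw [ho] at h1
      have h3 : p ∣ Fintype.card K := by
        obtain ⟨n, -, hn⟩ := FiniteField.card K p
        rw [hn]
        exact dvd_pow_self p n.pos.ne'
      have h4 : r ∣ Fintype.card K - 1 := hrd.trans (Nat.div_dvd_of_dvd (by omega))
      rw [← (Nat.prime_dvd_prime_iff_eq hr (hπ p hp).1).1 h1] at h3
      exact hr.not_dvd_one (by
        have := Nat.dvd_sub h3 h4
        rwa [show Fintype.card K - (Fintype.card K - 1) = 1 by omega] at this)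
    obtain ⟨g, hg⟩ := exists_inverter_nonUni hnu
    exact false_of_real hπ h hrπ ho hg
  let U : Multiplicative K →* P2 := MonoidHom.mk' (fun a => upU a.toAdd) fun a b => by
    rw [toAdd_mul, upU_add]
  have hQ : IsPGroup p U.range := by
    rintro ⟨_, a, rfl⟩
    exact ⟨1, Subtype.ext (by rw [pow_one, SubmonoidClass.coe_pow]; exact upU_pow_char p _)⟩
  have hN : torEl z ∈ normalizer ((U.range : Subgroup P2) : Set P2) := by
    refine mem_normalizer_fintype fun b hb => ?_
    obtain ⟨a, rfl⟩ := hb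
    exact ⟨Multiplicative.ofAdd ((z : K) * z * a.toAdd), (torEl_conj z a.toAdd).symm⟩
  have := mem_centralizer_iff.1 (h p hp _ hQ r hr hrπ _ hN ⟨1, by rw [pow_one, htz]⟩) (upU 1)
    ⟨Multiplicative.ofAdd 1, rfl⟩
  exact hne (by rw [← this, mul_inv_cancel_right])

end PSL

theorem psl_none' {K : Type*} [Field K] [Fintype K] (hπ : ∀ p ∈ π, p.Prime ∧ p ≠ 2) (h : CentP π X)
    (hK : 4 ≤ Fintype.card K) (e : X ≃* Matrix.ProjectiveSpecialLinearGroup (Fin 2) K) :
    ∀ p ∈ π, ¬ p ∣ Nat.card X := by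
  rw [Nat.card_congr e.toEquiv]
  exact psl_none hπ (centP_of_injective h e.symm.toMonoidHom e.symm.injective) hK

section AltSeven

local notation "A7" => alternatingGroup (Fin 7)

theorem alt_seven_none (hπ : ∀ p ∈ π, p.Prime ∧ p ≠ 2) (h : CentP π A7) :
    ∀ p ∈ π, ¬ p ∣ Nat.card A7 := by
  intro p hp hd
  let x3 : A7 := ⟨Equiv.swap 0 1 * Equiv.swap 1 2, Equiv.Perm.mem_alternatingGroup.2 (by decide)⟩
  let g3 : A7 := ⟨Equiv.swap 1 2 * Equiv.swap 3 4, Equiv.Perm.mem_alternatingGroup.2 (by decide)⟩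
  let x5 : A7 := ⟨Equiv.swap 0 1 * Equiv.swap 1 2 * Equiv.swap 2 3 * Equiv.swap 3 4, Equiv.Perm.mem_alternatingGroup.2 (by decide)⟩
  let g5 : A7 := ⟨Equiv.swap 1 4 * Equiv.swap 2 3, Equiv.Perm.mem_alternatingGroup.2 (by decide)⟩
  let x7 : A7 := ⟨Equiv.swap 0 1 * Equiv.swap 1 2 * Equiv.swap 2 3 * Equiv.swap 3 4 *
    Equiv.swap 4 5 * Equiv.swap 5 6, Equiv.Perm.mem_alternatingGroup.2 (by decide)⟩
  let g7 : A7 := ⟨Equiv.swap 1 2 * Equiv.swap 2 4 * (Equiv.swap 3 6 * Equiv.swap 6 5), Equiv.Perm.mem_alternatingGroup.2 (by decide)⟩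
  haveI : Fact (Nat.Prime 3) := ⟨by norm_num⟩
  haveI : Fact (Nat.Prime 5) := ⟨by norm_num⟩
  haveI : Fact (Nat.Prime 7) := ⟨by norm_num⟩
  have ho3 : orderOf x3 = 3 := orderOf_eq_prime (by decide +kernel) (by decide +kernel)
  have ho5 : orderOf x5 = 5 := orderOf_eq_prime (by decide +kernel) (by decide +kernel)
  have ho7 : orderOf x7 = 7 := orderOf_eq_prime (by decide +kernel) (by decide +kernel)
  have hcard : Nat.card A7 = 2520 := by
    rw [nat_card_alternatingGroup, Nat.card_eq_fintype_card, Fintype.card_fin]; rfl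
  rw [hcard] at hd
  have hp' := (hπ p hp).1
  have hmem : p ∈ Nat.primeFactors 2520 := Nat.mem_primeFactors.2 ⟨hp', hd, by norm_num⟩
  rw [show Nat.primeFactors 2520 = {2, 3, 5, 7} by
    rw [show (2520 : ℕ) = 2 ^ 3 * (3 ^ 2 * (5 * 7)) by norm_num, Nat.primeFactors_mul (by norm_num)
      (by norm_num), Nat.primeFactors_mul (by norm_num) (by norm_num),
      Nat.primeFactors_mul (by norm_num) (by norm_num),
      Nat.primeFactors_prime_pow (by norm_num) Nat.prime_two,
      Nat.primeFactors_prime_pow (by norm_num) Nat.prime_three,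
      Nat.Prime.primeFactors (by norm_num), Nat.Prime.primeFactors (by norm_num)]
    decide] at hmem
  simp only [Finset.mem_insert, Finset.mem_singleton] at hmem
  rcases hmem with rfl | rfl | rfl | rfl
  · exact (hπ 2 hp).2 rfl
  · exact false_of_real hπ h hp ho3 (g := g3) (by decide +kernel)
  · exact false_of_real hπ h hp ho5 (g := g5) (by decide +kernel)
  · by_cases h3 : 3 ∈ π
    · exact false_of_real hπ h h3 ho3 (g := g3) (by decide +kernel)
    have hQ : IsPGroup 7 (zpowers x7) :=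
      IsPGroup.of_card (n := 1) (by rw [Nat.card_zpowers, ho7, pow_one])
    have hconj : g7 * x7 * g7⁻¹ = x7 ^ 2 := by decide +kernel
    have hN : g7 ∈ normalizer ((zpowers x7 : Subgroup A7) : Set A7) := by
      refine mem_normalizer_fintype fun b hb => ?_
      obtain ⟨i, rfl⟩ := hb
      refine ⟨2 * i, ?_⟩
      show x7 ^ (2 * i) = g7 * x7 ^ i * g7⁻¹
      rw [← conj_zpow, hconj, zpow_mul, zpow_ofNat]
    have := mem_centralizer_iff.1 (h 7 hp _ hQ 3 Nat.prime_three h3 g7 hN ⟨1, by decide +kernel⟩)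
      x7 (mem_zpowers x7)
    revert this
    decide +kernel

end AltSeven

end Cfsg.Agent.H72.PiHom
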