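import Cfsg.Agent.H72.PiHom.Reduce
import Cfsg.Agent.H72.PiHom.Shapes
import Cfsg.Agent.H72.PiHom.Defs
import Cfsg.Agent.S0483

/-!
π-homogeneous groups, `π` odd primes, with abelian or dihedral Sylow 2-subgroups are π'-closed,
given the classification of simple groups with abelian Sylow 2-subgroups and the fact on type R.
-/

set_option autoImplicit false
set_option linter.unusedSectionVars false
set_option linter.style.haveILetI false

namespace Cfsg.Agent.H72.PiHom

open Subgroup Cfsg.Agent

universe u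

variable {π : Set ℕ}

theorem simpleCase (hπ : ∀ p ∈ π, p.Prime ∧ p ≠ 2) (hW : H10.Walter.WalterHyp.{u})
    (hR : TypeRHyp.{u}) : SimpleCase.{u} π := by
  intro G _ _ M _ hperf hs hMtop hmax hsimple hna hcp
  haveI := hperf
  obtain ⟨S⟩ : Nonempty (Sylow 2 G) := inferInstance
  by_cases hab : IsMulCommutative S
  swap
  · obtain ⟨n, ⟨e⟩⟩ := (hs S).resolve_left hab
    have hn : 2 ≤ n := by
      by_contra hn
      interval_cases n
      · haveI : Finite (DihedralGroup 0) := Finite.of_equiv _ e.toEquiv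
        exact absurd (Nat.card_pos (α := DihedralGroup 0)) (by rw [DihedralGroup.nat_card]; norm_num)
      · refine hab ⟨⟨fun a b => e.injective ?_⟩⟩
        rw [map_mul, map_mul]
        generalize e a = a'
        generalize e b = b'
        revert a' b'
        decide
    have key : ∀ {L : Type} [Group L], IsSimpleGroup L → Nonempty (G ⧸ Cfsg.oddCore G ≃* L) →
        Nonempty ((G ⧸ M) ≃* L) := by
      intro L _ hL ⟨f⟩
      haveI := f.isSimpleGroup_congr.2 hL
      have hO : Cfsg.oddCore G ≠ ⊤ := fun h => by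
        haveI : Subsingleton (G ⧸ Cfsg.oddCore G) :=
          QuotientGroup.subsingleton_iff.2 h
        exact false_of_nontrivial_of_subsingleton (G ⧸ Cfsg.oddCore G)
      have hle : Cfsg.oddCore G ≤ M := hmax _ inferInstance hO
      have hge : M ≤ Cfsg.oddCore G := by
        rcases (inferInstance : (M.map (QuotientGroup.mk' (Cfsg.oddCore G))).Normal).eq_bot_or_eq_top
          with h | h
        · rwa [Subgroup.map_eq_bot_iff, QuotientGroup.ker_mk'] at h
        · exfalso
          apply hMtop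
          rw [eq_top_iff, ← Subgroup.comap_top (QuotientGroup.mk' (Cfsg.oddCore G)), ← h,
            Subgroup.comap_map_eq, QuotientGroup.ker_mk']
          exact sup_le le_rfl hle
      exact ⟨(QuotientGroup.quotientMulEquivOfEq (le_antisymm hge hle)).trans f⟩
    rcases S0483.result S n hn ⟨e⟩ with ⟨F, _, _, hodd, h3, hf⟩ | hf
    · haveI : IsSimpleGroup (Matrix.ProjectiveSpecialLinearGroup (Fin 2) F) :=
        Matrix.ProjectiveSpecialLinearGroup.rank_two_simple (by rw [Nat.card_eq_fintype_card]; omega)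
      obtain ⟨f⟩ := key inferInstance hf
      exact psl_none' hπ hcp h3 f
    · haveI : IsSimpleGroup (alternatingGroup (Fin 7)) := alternatingGroup.isSimpleGroup (by simp)
      obtain ⟨f⟩ := key inferInstance hf
      rw [Nat.card_congr f.toEquiv]
      exact alt_seven_none hπ (centP_of_injective hcp f.symm.toMonoidHom f.symm.injective)
  have hX : H10.Walter.AbSyl (G ⧸ M) := by
    intro T
    obtain ⟨S', rfl⟩ := Sylow.mapSurjective_surjective (QuotientGroup.mk'_surjective M) 2 T
    refine ⟨⟨?_⟩⟩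
    have hS' : IsMulCommutative S' := by
      refine ⟨⟨fun a b => (Sylow.equiv S' S).injective ?_⟩⟩
      rw [map_mul, map_mul]
      exact hab.is_comm.comm _ _
    rintro ⟨_, a, ha, rfl⟩ ⟨_, b, hb, rfl⟩
    apply Subtype.ext
    show QuotientGroup.mk' M a * QuotientGroup.mk' M b = QuotientGroup.mk' M b * QuotientGroup.mk' M a
    rw [← map_mul, ← map_mul,
      show a * b = b * a from congrArg Subtype.val (hS'.is_comm.comm ⟨a, ha⟩ ⟨b, hb⟩)]
  rcases hW (G ⧸ M) hsimple hna hX with ⟨F, _, _, n, hn, hc, ⟨f⟩⟩ | ⟨F, _, _, h5, -, ⟨f⟩⟩ | htR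
  · refine psl_none' hπ hcp ?_ f
    rw [hc]
    calc 4 = 2 ^ 2 := by norm_num
      _ ≤ 2 ^ n := Nat.pow_le_pow_right (by norm_num) hn
  · exact psl_none' hπ hcp (by omega) f
  · intro p hp hd
    rcases hR (G ⧸ M) hsimple hX htR p (hπ p hp).1 (hπ p hp).2 hd with
      ⟨L, ⟨F, _, _, h5, -, ⟨f⟩⟩, hpL⟩ | ⟨x, g, hx, hg⟩
    · exact psl_none' hπ (centP_of_injective hcp L.subtype L.subtype_injective) (by omega) f p hp hpL
    · exact false_of_real hπ hcp hp hx hg

/-- The statement S4047 from the two inputs. -/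
theorem piPrime_closed (hW : H10.Walter.WalterHyp.{u}) (hR : TypeRHyp.{u})
    {G : Type u} [Group G] [Finite G] (π : Set ℕ) (hodd : ∀ p ∈ π, p.Prime ∧ p ≠ 2)
    (h2 : ∀ S : Sylow 2 G, IsMulCommutative S ∨ ∃ n : ℕ, Nonempty ((S : Subgroup G) ≃* DihedralGroup n))
    (hhom : (∀ H : Subgroup G, H ≠ ⊥ → (∀ p : ℕ, p.Prime → p ∣ Nat.card ↥H → p ∈ π) →
        ∀ p : ℕ, p.Prime → p ∣ (Subgroup.centralizer (H : Set G)).relIndex (Subgroup.normalizer (H : Set G)) → p ∈ π)) :
    (∃ K : Subgroup G, ∀ x : G, x ∈ K ↔ ∀ p : ℕ, p.Prime → p ∣ orderOf x → p ∉ π) := by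
  refine closed_of_simpleCase hodd (simpleCase hodd hW hR) G h2 ?_
  intro H hH g hg hgπ
  rcases eq_or_ne H ⊥ with rfl | hne
  · refine mem_centralizer_iff.2 fun b hb => ?_
    rw [SetLike.mem_coe, mem_bot] at hb
    subst hb
    simp
  set C := (centralizer (H : Set G)).subgroupOf (normalizer (H : Set G)) with hC
  haveI : C.Normal := by
    show ((centralizer (H : Set G)).subgroupOf (normalizer (H : Set G))).Normal
    rw [← Subgroup.normalizerMonoidHom_ker]; infer_instance
  have h1 : orderOf (QuotientGroup.mk' C ⟨g, hg⟩) = 1 := by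
    refine Nat.eq_one_iff_not_exists_prime_dvd.2 fun r hr hd => ?_
    refine hgπ r hr ?_ (hhom H hne hH r hr ?_)
    · refine hd.trans ((orderOf_map_dvd _ _).trans ?_)
      rw [Subgroup.orderOf_mk]
    · exact hd.trans (_root_.orderOf_dvd_natCard _)
  have := (QuotientGroup.eq_one_iff (⟨g, hg⟩ : normalizer (H : Set G))).1 (orderOf_eq_one_iff.1 h1)
  exact Subgroup.mem_subgroupOf.1 this

end Cfsg.Agent.H72.PiHom
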