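import Cfsg.Agent.H72.PiHom.ReeTypeR
import Cfsg.Agent.H72.PiHom.Main
import Cfsg.Agent.H10.Walter.Final

/-!
π-homogeneous groups, given only the structure of the involution centraliser in groups of type R.
-/

set_option autoImplicit false

namespace Cfsg.Agent.H72.PiHom

universe u

/-- The statement S4047 from `TypeRCentralizer`. -/
theorem piPrime_closed_of_typeR (hC : H28.WardCons.TypeRCentralizer.{u})
    {G : Type u} [Group G] [Finite G] (π : Set ℕ) (hodd : ∀ p ∈ π, p.Prime ∧ p ≠ 2)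
    (h2 : ∀ S : Sylow 2 G, IsMulCommutative S ∨ ∃ n : ℕ, Nonempty ((S : Subgroup G) ≃* DihedralGroup n))
    (hhom : (∀ H : Subgroup G, H ≠ ⊥ → (∀ p : ℕ, p.Prime → p ∣ Nat.card ↥H → p ∈ π) →
        ∀ p : ℕ, p.Prime → p ∣ (Subgroup.centralizer (H : Set G)).relIndex (Subgroup.normalizer (H : Set G)) → p ∈ π)) :
    (∃ K : Subgroup G, ∀ x : G, x ∈ K ↔ ∀ p : ℕ, p.Prime → p ∣ orderOf x → p ∉ π) :=
  piPrime_closed H10.Walter.walterHyp (typeR_hyp hC) π hodd h2 hhom

end Cfsg.Agent.H72.PiHom
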