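import Cfsg.Agent.Compute.J1.Classes
import Cfsg.Agent.S4273

/-!
# Real elements of orders 7, 11, 19 in the first Janko group

The inversion permutes the classes of elements of one order; there are one, one, three of them.
-/

set_option autoImplicit false
set_option linter.style.haveILetI false

namespace Cfsg.Agent.H72.PiHom

open Cfsg.Agent.Compute.J1

/-- A class is mapped to the class `j` by inversion. -/
def InvRel (i j : Fin 15) : Prop := IsConj (rep i) (rep j)⁻¹

theorem InvRel.symm {i j : Fin 15} (h : InvRel i j) : InvRel j i := by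
  obtain ⟨c, hc⟩ := isConj_iff.1 h
  refine isConj_iff.2 ⟨c⁻¹, ?_⟩
  have h1 : rep j = (c * rep i * c⁻¹)⁻¹ := by rw [hc, inv_inv]
  rw [h1]; group

theorem InvRel.unique {i j k : Fin 15} (h : InvRel i j) (h' : InvRel i k) : j = k := by
  by_contra hjk
  obtain ⟨c, hc⟩ := isConj_iff.1 ((IsConj.symm h).trans h')
  refine rep_not_isConj hjk (isConj_iff.2 ⟨c, ?_⟩)
  have h2 := congrArg (·⁻¹) hc
  simp only [inv_inv] at h2
  rw [← h2]; group

theorem InvRel.exists_of_row (i : Fin 15) : ∃ j, InvRel i j ∧ (row j).2.1 = (row i).2.1 := by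
  obtain ⟨j, hj⟩ := exists_isConj_rep (rep i)⁻¹
  refine ⟨j, InvRel.symm (i := j) (j := i) hj, ?_⟩
  rw [← orderOf_eq_rep _ j hj, orderOf_inv, orderOf_rep]

theorem rows_order : ∀ i : Fin 15, ((row i).2.1 = 7 → i = 6) ∧ ((row i).2.1 = 11 → i = 9) ∧
    ((row i).2.1 = 19 → i = 12 ∨ i = 13 ∨ i = 14) := by decide +kernel

theorem rows_value : (row 6).2.1 = 7 ∧ (row 9).2.1 = 11 ∧ (row 12).2.1 = 19 ∧ (row 13).2.1 = 19 ∧
    (row 14).2.1 = 19 := by decide +kernel

/-- Real elements of order `7`, `11`, `19` in the model. -/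
theorem model_real {p : ℕ} (hp : p = 7 ∨ p = 11 ∨ p = 19) :
    ∃ x g : pairGrp, orderOf x = p ∧ g * x * g⁻¹ = x⁻¹ := by
  suffices ∃ i, (row i).2.1 = p ∧ InvRel i i by
    obtain ⟨i, hi, h⟩ := this
    obtain ⟨g, hg⟩ := isConj_iff.1 h
    exact ⟨rep i, g, (orderOf_rep i).trans hi, hg⟩
  obtain ⟨v6, v9, v12, v13, v14⟩ := rows_value
  rcases hp with rfl | rfl | rfl
  · obtain ⟨j, hj, hjo⟩ := InvRel.exists_of_row 6
    obtain rfl := (rows_order j).1 (hjo.trans v6)
    exact ⟨6, v6, hj⟩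
  · obtain ⟨j, hj, hjo⟩ := InvRel.exists_of_row 9
    obtain rfl := (rows_order j).2.1 (hjo.trans v9)
    exact ⟨9, v9, hj⟩
  · obtain ⟨a, ha, hao⟩ := InvRel.exists_of_row 12
    obtain ⟨b, hb, hbo⟩ := InvRel.exists_of_row 13
    obtain ⟨c, hc, hco⟩ := InvRel.exists_of_row 14
    rcases (rows_order a).2.2 (hao.trans v12) with rfl | rfl | rfl
    · exact ⟨12, v12, ha⟩
    · rcases (rows_order c).2.2 (hco.trans v14) with rfl | rfl | rfl
      · exact absurd (ha.unique hc.symm) (by decide)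
      · exact absurd (ha.symm.unique hc.symm) (by decide)
      · exact ⟨14, v14, hc⟩
    · rcases (rows_order b).2.2 (hbo.trans v13) with rfl | rfl | rfl
      · exact absurd (ha.unique hb.symm) (by decide)
      · exact ⟨13, v13, hb⟩
      · exact absurd (ha.symm.unique hb.symm) (by decide)

universe u

/-- Real elements of order `7`, `11`, `19` in a simple group of order `175560`. -/
theorem jone_real {G : Type u} [Group G] [Finite G] (h : Cfsg.IsJ1 G) {p : ℕ}
    (hp : p = 7 ∨ p = 11 ∨ p = 19) : ∃ x g : G, orderOf x = p ∧ g * x * g⁻¹ = x⁻¹ := by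
  haveI := h.1
  haveI := isSimple_pairGrp
  haveI : Finite pairGrp := Nat.finite_of_card_ne_zero (by rw [card_pairGrp]; norm_num)
  obtain ⟨e⟩ := S4273.result (G := pairGrp) (H := G) card_pairGrp h.2
  obtain ⟨x, g, hx, hg⟩ := model_real hp
  exact ⟨e x, e g, (MulEquiv.orderOf_eq e x).trans hx, by
    rw [← map_inv, ← map_mul, ← map_mul, hg, map_inv]⟩

end Cfsg.Agent.H72.PiHom
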