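import Cfsg.Agent.H72.PiHom.Basic

/-!
A minimal group that is π-homogeneous but not π'-closed is perfect with a simple quotient; it
suffices that this quotient has no order divisible by a prime of `π`.
-/

set_option autoImplicit false
set_option linter.unusedSectionVars false
set_option linter.style.haveILetI false

namespace Cfsg.Agent.H72.PiHom

open Subgroup Cfsg.Agent
open scoped commutatorElement

universe u

variable {π : Set ℕ}

/-- What is needed about the simple quotient of a perfect group. -/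
def SimpleCase (π : Set ℕ) : Prop :=
  ∀ (G : Type u) [Group G] [Finite G] (M : Subgroup G) [M.Normal], Group.IsPerfect G → Syl2 G →
    M ≠ ⊤ → (∀ N : Subgroup G, N.Normal → N ≠ ⊤ → N ≤ M) → IsSimpleGroup (G ⧸ M) →
    ¬ IsMulCommutative (G ⧸ M) → CentP π (G ⧸ M) → ∀ p ∈ π, ¬ p ∣ Nat.card (G ⧸ M)

variable {G : Type u} [Group G] [Finite G]

/-- The quotient inherits the local property. -/
theorem centP_quotient (hπ : ∀ p ∈ π, p.Prime) (hc : Cent π G) (M : Subgroup G) [M.Normal] :
    CentP π (G ⧸ M) := by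
  intro p hp Q hQ r hr hrπ g hg hgk
  haveI := Fact.mk (hπ p hp)
  set f := QuotientGroup.mk' M with hf
  have hsurj : Function.Surjective f := QuotientGroup.mk'_surjective M
  set A := Q.comap f with hA
  obtain ⟨P⟩ : Nonempty (Sylow p A) := inferInstance
  set P' := (P : Subgroup A).map A.subtype with hP'
  -- `P` covers `Q`
  let h : A →* Q := f.subgroupComap Q
  have hh : Function.Surjective h := MonoidHom.subgroupComap_surjective_of_surjective _ _ hsurj
  have hcover : ∀ q ∈ Q, ∃ a ∈ P', f a = q := by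
    have htop : ((P.mapSurjective hh : Sylow p Q) : Subgroup Q) = ⊤ := by
      refine Subgroup.eq_top_of_card_eq _ ?_
      obtain ⟨n, hn⟩ := hQ.exists_card_eq
      rw [(P.mapSurjective hh).card_eq_multiplicity, hn,
        (hπ p hp).factorization_pow, Finsupp.single_eq_same]
    intro q hq
    have : (⟨q, hq⟩ : Q) ∈ ((P.mapSurjective hh : Sylow p Q) : Subgroup Q) := htop ▸ mem_top _
    rw [Sylow.coe_mapSurjective] at this
    obtain ⟨a, ha, e⟩ := this
    exact ⟨a, ⟨a, ha, rfl⟩, congrArg Subtype.val e⟩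
  -- a preimage normalising `P`
  obtain ⟨y₀, rfl⟩ := hsurj g
  have hy₀ : y₀ ∈ normalizer (A : Set G) := by
    refine mem_normalizer_fintype fun a ha => ?_
    show f (y₀ * a * y₀⁻¹) ∈ Q
    rw [map_mul, map_mul, map_inv]
    exact (mem_normalizer_iff.1 hg _).1 ha
  set B := normalizer (A : Set G) with hB
  haveI : (A.subgroupOf B).Normal := Subgroup.normal_in_normalizer
  let e : A.subgroupOf B ≃* A := Subgroup.subgroupOfEquivOfLe le_normalizer
  let PB : Sylow p (A.subgroupOf B) := P.comapOfInjective e.toMonoidHom e.injective (by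
    rw [MonoidHom.range_eq_top.2 e.surjective]; exact le_top)
  have hsup := Sylow.normalizer_sup_eq_top PB
  obtain ⟨n, hn, a, ha, hna⟩ := mem_sup_of_normal_right.1
    (show (⟨y₀, hy₀⟩ : B) ∈ normalizer (((PB : Subgroup (A.subgroupOf B)).map
      (A.subgroupOf B).subtype : Subgroup B) : Set B) ⊔ A.subgroupOf B from hsup ▸ mem_top _)
  have hnP : (n : G) ∈ normalizer (P' : Set G) := by
    refine mem_normalizer_fintype fun b hb => ?_
    obtain ⟨b, hb, rfl⟩ := hb
    have hb' : (⟨(b : G), le_normalizer b.2⟩ : B) ∈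
        ((PB : Subgroup (A.subgroupOf B)).map (A.subgroupOf B).subtype : Subgroup B) :=
      ⟨⟨⟨(b : G), le_normalizer b.2⟩, b.2⟩, hb, rfl⟩
    obtain ⟨c, hc, hce⟩ := (mem_normalizer_iff.1 hn _).1 hb'
    exact ⟨e c, hc, congrArg Subtype.val hce⟩
  -- `g` is the image of an element of `N(P)` of `r`-power order
  obtain ⟨k, hk⟩ := hgk
  have hfa : f (a : G) ∈ Q := ha
  set m := orderOf (n : G) with hm
  obtain ⟨j, c, hrc, hjc⟩ := Nat.exists_eq_pow_mul_and_not_dvd
    (orderOf_pos (n : G)).ne' r hr.ne_one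
  obtain ⟨s, hs⟩ : ∃ s : ℕ, c * s ≡ 1 [MOD r ^ k] := by
    rcases Nat.eq_zero_or_pos k with rfl | hk0
    · exact ⟨0, by simp [Nat.modEq_one]⟩
    obtain ⟨s, hs⟩ := Nat.exists_mul_mod_eq_one_of_coprime
      (Nat.Coprime.pow_right k ((hr.coprime_iff_not_dvd.2 hrc).symm))
      (Nat.one_lt_pow hk0.ne' hr.one_lt)
    exact ⟨s, hs.2.trans (Nat.one_mod_eq_one.2 (Nat.one_lt_pow hk0.ne' hr.one_lt).ne').symm⟩
  have hgpow : f y₀ ^ (c * s) = f y₀ := by
    conv_rhs => rw [← pow_one (f y₀)]
    exact pow_eq_pow_iff_modEq.2 (hs.of_dvd (orderOf_dvd_of_pow_eq_one hk))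
  set y := (n : G) ^ (c * s) with hy
  have hyP : y ∈ normalizer (P' : Set G) := pow_mem hnP _
  have hyπ : PiPrimeElt π y := piPrime_of_pow hr hrπ (k := j) (by
    rw [hy, ← pow_mul, show c * s * r ^ j = r ^ j * c * s by ring, ← hjc, pow_mul,
      pow_orderOf_eq_one, one_pow])
  have hyC := hc P' (isPiSubgroup_of_isPGroup hp (hπ p hp) (P.isPGroup'.map _)) y hyP hyπ
  -- `f n` and `g` agree modulo `Q`, and `f y` centralises `Q`
  have hgn : f (y₀ : G) = f (n : G) * f (a : G) := by
    rw [← map_mul]; exact congrArg f (congrArg Subtype.val hna).symm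
  rw [mem_centralizer_iff]
  intro q hq
  obtain ⟨b, hb, rfl⟩ := hcover q hq
  have h1 : Commute (f b) (f y) := (mem_centralizer_iff.1 hyC b hb : b * y = y * b) |> fun e => by
    show f b * f y = f y * f b
    rw [← map_mul, e, map_mul]
  -- the power of `f n a` is the power of `f n` up to `Q`
  have h2 : ∀ t : ℕ, (f (n : G)) ^ t ∈ normalizer (Q : Set (G ⧸ M)) := by
    intro t
    refine pow_mem ?_ t
    have : f (n : G) = f y₀ * (f (a : G))⁻¹ := by rw [hgn, mul_inv_cancel_right]
    rw [this]
    exact mul_mem hg (inv_mem (le_normalizer hfa))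
  have h3 : ∀ t : ℕ, ∃ q' ∈ Q, f y₀ ^ t = f (n : G) ^ t * q' := by
    intro t
    induction t with
    | zero => exact ⟨1, one_mem _, by simp⟩
    | succ t ih =>
      obtain ⟨q', hq', e'⟩ := ih
      refine ⟨(f (n : G))⁻¹ * q' * f (n : G) * f (a : G), mul_mem ?_ hfa, ?_⟩
      · have h4 := (mem_normalizer_iff.1 (inv_mem (show f (n : G) ∈ normalizer (Q : Set (G ⧸ M)) by
          simpa using h2 1)) q').1 hq'
        simpa using h4
      · rw [pow_succ, e', hgn, pow_succ]; group
  obtain ⟨q', hq', e'⟩ := h3 (c * s)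
  have he : f y₀ = f y * q' := by rw [← hgpow, e', hy, map_pow]
  -- so `g` acts on `Q` as an element of `Q` of `r`-power order
  have hq'y : Commute q' (f y) := by
    obtain ⟨b', hb', rfl⟩ := hcover q' hq'
    show f b' * f y = f y * f b'
    rw [← map_mul, (mem_centralizer_iff.1 hyC b' hb' : b' * y = y * b'), map_mul]
  have hq'1 : q' = 1 := by
    have h5 : q' = (f y)⁻¹ * f y₀ := by rw [he, inv_mul_cancel_left]
    have h6 : (f y₀) ^ (r ^ (k + j)) = 1 := by
      rw [pow_add, pow_mul, hk, one_pow]
    have h7 : (f y) ^ (r ^ (k + j)) = 1 := by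
      rw [← map_pow, hy, ← pow_mul, show c * s * r ^ (k + j) = r ^ j * c * (s * r ^ k) by ring,
        ← hjc, pow_mul, pow_orderOf_eq_one, one_pow, map_one]
    have h8 : q' ^ (r ^ (k + j)) = 1 := by
      rw [he, hq'y.symm.mul_pow, h7, one_mul] at h6
      exact h6
    obtain ⟨i, hi⟩ := hQ ⟨q', hq'⟩
    have hi' : q' ^ p ^ i = 1 := congrArg Subtype.val hi
    have hne : p ≠ r := fun e => hrπ (e ▸ hp)
    exact orderOf_eq_one_iff.1 (Nat.eq_one_of_dvd_coprimes
      (((Nat.coprime_primes (hπ p hp) hr).2 hne).pow i (k + j))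
      (orderOf_dvd_of_pow_eq_one hi') (orderOf_dvd_of_pow_eq_one h8))
  rw [he, hq'1, mul_one]
  exact h1.eq

/-- **The reduction.** -/
theorem closed_of_simpleCase (hπ : ∀ p ∈ π, p.Prime ∧ p ≠ 2) (hX : SimpleCase.{u} π) :
    ∀ (G : Type u) [Group G] [Finite G], Syl2 G → Cent π G → Closed π G := by
  intro G
  induction hn : Nat.card G using Nat.strong_induction_on generalizing G with
  | _ n ih =>
  intro _ _ hs hc
  subst hn
  have hπ' : ∀ p ∈ π, p.Prime := fun p hp => (hπ p hp).1
  have hsub : ∀ X : Subgroup G, X ≠ ⊤ → Closed π X := fun X hX' => by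
    refine ih _ ?_ X rfl (syl2_subgroup hs X) (cent_subgroup hc X)
    exact lt_of_le_of_ne (Nat.le_of_dvd Nat.card_pos (Subgroup.card_subgroup_dvd_card X))
      fun e => hX' (Subgroup.eq_top_of_card_eq _ e)
  -- generated by π'-elements
  set L := closure {x : G | PiPrimeElt π x} with hL
  by_cases hLtop : L = ⊤
  swap
  · exact closed_of_contains (fun x hx => subset_closure hx) (hsub L hLtop)
  by_cases hab : ∀ a b : G, Commute a b
  · exact closed_of_commute hab
  by_contra hG
  -- normal π'-subgroups are in the Frattini subgroup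
  have hfr : ∀ K : Subgroup G, K.Normal → (∀ p ∈ π, ¬ p ∣ Nat.card K) → K ≤ frattini G := by
    intro K hK hKc
    rw [frattini, Order.radical]
    refine le_iInf₂ fun N hN => ?_
    by_contra hKN
    haveI := hK
    exact hG (closed_of_supplement hKc (hN.2 _ (lt_of_le_of_ne le_sup_left
      (fun e => hKN (le_sup_right.trans e.ge)))) hπ' (hsub N hN.1))
  haveI := frattini_nilpotent (G := G)
  haveI : Group.IsNilpotent (center G) :=
    open scoped IsMulCommutative in CommGroup.isNilpotent
  set W := frattini G ⊔ center G with hW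
  have hWn : Group.IsNilpotent W := H77.isNilpotent_sup_normal ‹_› ‹_›
  have hWtop : W ≠ ⊤ := by
    intro e
    refine hab fun a b => ?_
    have hZ : center G = ⊤ := frattini_nongenerating (by rw [sup_comm]; exact e)
    exact (mem_center_iff.1 (hZ ▸ mem_top a : a ∈ center G) b).symm
  -- proper normal subgroups lie in `W`
  have hle : ∀ M : Subgroup G, M.Normal → M ≠ ⊤ → M ≤ W := by
    intro M
    induction M using WellFoundedLT.induction with
    | _ M ihM =>
    intro hM hMtop
    haveI := hM
    obtain ⟨J, hJ⟩ := hsub M hMtop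
    set K := J.map M.subtype with hK
    have hKc : ∀ p ∈ π, ¬ p ∣ Nat.card K := by
      rw [hK, Subgroup.card_map_of_injective M.subtype_injective]
      exact card_of_closed hπ' fun x hx => (hJ x).1 hx
    haveI hKn : K.Normal := ⟨by
      rintro _ ⟨a, ha, rfl⟩ g
      exact ⟨⟨g * a * g⁻¹, hM.conj_mem a a.2 g⟩,
        (hJ _).2 ((piPrime_coe _).1 (piPrime_conj ((piPrime_coe a).2 ((hJ a).1 ha)) g)), rfl⟩⟩
    have hKW : K ≤ W := (hfr K hKn hKc).trans le_sup_left
    have hKsol : Group.IsSolvable K := by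
      haveI : Group.IsNilpotent K :=
        Group.nilpotent_of_mulEquiv (Subgroup.subgroupOfEquivOfLe (hfr K hKn hKc))
      infer_instance
    haveI : J.Normal := ⟨fun x hx g => (hJ _).2 (piPrime_conj ((hJ x).1 hx) g)⟩
    have hquot : Group.IsSolvable (M ⧸ J) := by
      refine S0205.result (Nat.odd_iff.2 ?_)
      by_contra h2
      obtain ⟨x, hx⟩ := exists_prime_orderOf_dvd_card' (G := M ⧸ J) 2
        (Nat.dvd_of_mod_eq_zero (by omega))
      obtain ⟨P⟩ : Nonempty (Sylow 2 M) := inferInstance
      have hPJ : (P : Subgroup M) ≤ J := fun a ha => (hJ a).2 (by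
        obtain ⟨k, hk⟩ := P.isPGroup' ⟨a, ha⟩
        exact piPrime_of_pow Nat.prime_two (fun h => (hπ 2 h).2 rfl) (congrArg Subtype.val hk))
      have hQ := (P.mapSurjective (QuotientGroup.mk'_surjective J)).dvd_card_of_dvd_card
        (hx ▸ orderOf_dvd_natCard x)
      rw [Sylow.coe_mapSurjective, (Subgroup.map_eq_bot_iff _).2 (by simpa using hPJ),
        Subgroup.card_bot] at hQ
      exact Nat.prime_two.not_dvd_one hQ
    haveI hMsol : Group.IsSolvable M := by
      haveI : Group.IsSolvable J :=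
        Group.isSolvable_of_surjective (f := (J.equivMapOfInjective _ M.subtype_injective).symm.toMonoidHom)
          (MulEquiv.surjective _)
      exact Group.isSolvable_of_ker_le_range J.subtype (QuotientGroup.mk' J) (by simp)
    by_cases hM1 : M = ⊥
    · rw [hM1]; exact bot_le
    have hlt : ⁅M, M⁆ < M := by
      refine lt_of_le_of_ne (commutator_le.2 fun a ha b hb => mul_mem (mul_mem (mul_mem ha hb)
        (inv_mem ha)) (inv_mem hb)) fun e => ?_
      haveI : Nontrivial M := (Subgroup.nontrivial_iff_ne_bot M).2 hM1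
      refine (Group.IsSolvable.commutator_lt_top_of_nontrivial M).ne ?_
      apply Subgroup.map_injective M.subtype_injective
      rw [_root_.commutator_def, Subgroup.map_commutator, ← MonoidHom.range_eq_map, M.range_subtype, e]
    have hF : ⁅M, M⁆ ≤ W :=
      ihM _ hlt inferInstance fun e => hMtop (top_le_iff.1 (e ▸ hlt.le))
    rw [← Subgroup.subgroupOf_eq_top]
    refine eq_top_of_sylow fun p hp => ?_
    haveI := Fact.mk hp
    obtain ⟨P⟩ : Nonempty (Sylow p M) := inferInstance
    refine ⟨P, fun a ha => ?_⟩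
    rw [Subgroup.mem_subgroupOf]
    obtain ⟨k, hk⟩ := P.isPGroup' ⟨a, ha⟩
    by_cases hpπ : p ∈ π
    swap
    · exact hKW ⟨a, (hJ a).2 (piPrime_of_pow hp hpπ (congrArg Subtype.val hk)), rfl⟩
    set PG := (P : Subgroup M).map M.subtype with hPG
    suffices hN : normalizer (PG : Set G) = ⊤ by
      haveI : PG.Normal := normalizer_eq_top_iff.1 hN
      exact (le_center hc hLtop (isPiSubgroup_of_isPGroup hpπ hp (P.isPGroup'.map _))
        |>.trans le_sup_right) (show (a : G) ∈ PG from ⟨a, ha, rfl⟩)
    set A : Subgroup M := (P : Subgroup M) ⊔ commutator M with hA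
    haveI : A.Normal := by
      rw [← normalizer_eq_top_iff, eq_top_iff]
      intro m _
      refine mem_normalizer_fintype fun x hx => ?_
      have h1 : ⁅m, x⁆ ∈ A := mem_sup_right (commutator_mem_commutator (mem_top m) (mem_top x))
      have h2 : m * x * m⁻¹ = ⁅m, x⁆ * x := by rw [commutatorElement_def]; group
      rw [SetLike.mem_coe] at hx ⊢
      rw [h2]
      exact mul_mem h1 hx
    have hfra := Sylow.normalizer_sup_eq_top' P (le_sup_left : (P : Subgroup M) ≤ A)
    have hM' : M ≤ normalizer (PG : Set G) ⊔ W := by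
      intro m hm
      have h0 : (⟨m, hm⟩ : M) ∈ normalizer ((P : Subgroup M) : Set M) ⊔ commutator M := by
        have : normalizer ((P : Subgroup M) : Set M) ⊔ commutator M = ⊤ := by
          rw [eq_top_iff, ← hfra]
          refine sup_le le_sup_left (sup_le (le_normalizer.trans le_sup_left) le_sup_right)
        exact this ▸ mem_top _
      obtain ⟨x, hx, y, hy, hxy⟩ := mem_sup_of_normal_right.1 h0
      have e := congrArg Subtype.val hxy
      rw [← show (x : G) * y = m from e]
      refine mul_mem (mem_sup_left (mem_normalizer_fintype fun b hb => ?_)) (mem_sup_right (hF ?_))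
      · obtain ⟨b, hb, rfl⟩ := hb
        exact ⟨x * b * x⁻¹, (mem_normalizer_iff.1 hx b).1 hb, rfl⟩
      · rw [show ⁅M, M⁆ = (commutator M).map M.subtype by
          rw [_root_.commutator_def, Subgroup.map_commutator, ← MonoidHom.range_eq_map, M.range_subtype]]
        exact ⟨y, hy, rfl⟩
    have htop : normalizer (PG : Set G) ⊔ W = ⊤ := by
      rw [eq_top_iff, ← Sylow.normalizer_sup_eq_top P]
      exact sup_le le_sup_left hM'
    refine frattini_nongenerating (top_le_iff.1 (htop.ge.trans (sup_le le_sup_left ?_)))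
    exact sup_le le_sup_right ((center_le_normalizer _).trans le_sup_left)
  -- the simple quotient
  haveI : W.Normal := inferInstance
  haveI hsimple : IsSimpleGroup (G ⧸ W) := by
    haveI : Nontrivial (G ⧸ W) := QuotientGroup.nontrivial_iff.2 hWtop
    refine ⟨fun N hN => ?_⟩
    rcases eq_or_ne (N.comap (QuotientGroup.mk' W)) ⊤ with e | e
    · right
      rw [← Subgroup.map_comap_eq_self_of_surjective (QuotientGroup.mk'_surjective W) N, e,
        Subgroup.map_top_of_surjective _ (QuotientGroup.mk'_surjective W)]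
    · left
      rw [← Subgroup.map_comap_eq_self_of_surjective (QuotientGroup.mk'_surjective W) N,
        Subgroup.map_eq_bot_iff, QuotientGroup.ker_mk']
      exact hle _ inferInstance e
  have hna : ¬ IsMulCommutative (G ⧸ W) := by
    intro hcomm
    letI : CommGroup (G ⧸ W) :=
      { (inferInstance : Group (G ⧸ W)) with mul_comm := fun a b => hcomm.is_comm.comm a b }
    haveI : IsCyclic (G ⧸ W) := IsSimpleGroup.isCyclic
    obtain ⟨q, hq⟩ := IsCyclic.exists_generator (α := G ⧸ W)
    obtain ⟨x, rfl⟩ := QuotientGroup.mk'_surjective W q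
    have h1 : zpowers x ⊔ center G = ⊤ := by
      refine frattini_nongenerating (eq_top_iff.2 fun g _ => ?_)
      obtain ⟨i, hi⟩ := hq (QuotientGroup.mk' W g)
      have hmem : (x ^ i)⁻¹ * g ∈ W := (QuotientGroup.eq).1
        (show ((x ^ i : G) : G ⧸ W) = (g : G ⧸ W) by rw [QuotientGroup.mk_zpow]; exact hi)
      have h2 : W ≤ zpowers x ⊔ center G ⊔ frattini G :=
        sup_le le_sup_right (le_sup_right.trans le_sup_left)
      rw [show g = x ^ i * ((x ^ i)⁻¹ * g) by group]
      exact mul_mem (mem_sup_left (mem_sup_left ⟨i, rfl⟩)) (h2 hmem)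
    refine hab fun a b => ?_
    obtain ⟨a₁, ⟨i, rfl⟩, a₂, ha₂, rfl⟩ := mem_sup_of_normal_right.1 (h1 ▸ mem_top a :
      a ∈ zpowers x ⊔ center G)
    obtain ⟨b₁, ⟨j, rfl⟩, b₂, hb₂, rfl⟩ := mem_sup_of_normal_right.1 (h1 ▸ mem_top b :
      b ∈ zpowers x ⊔ center G)
    have hca : ∀ g, Commute a₂ g := fun g => (mem_center_iff.1 ha₂ g).symm
    have hcb : ∀ g, Commute b₂ g := fun g => (mem_center_iff.1 hb₂ g).symm
    exact (((Commute.refl x).zpow_zpow i j).mul_right (hcb _).symm).mul_left (hca _)
  have hperf : Group.IsPerfect G := by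
    refine ⟨by_contra fun e => hna ⟨⟨fun a b => ?_⟩⟩⟩
    obtain ⟨a, rfl⟩ := QuotientGroup.mk'_surjective W a
    obtain ⟨b, rfl⟩ := QuotientGroup.mk'_surjective W b
    rw [← map_mul, ← map_mul]
    refine ((QuotientGroup.eq).2 (hle _ inferInstance e ?_) :)
    rw [show (a * b)⁻¹ * (b * a) = ⁅b⁻¹, a⁻¹⁆ by rw [commutatorElement_def]; group]
    exact commutator_mem_commutator (mem_top _) (mem_top _)
  have hXp := hX G W hperf hs hWtop hle hsimple hna (centP_quotient hπ' hc W)
  -- every `p ∈ π` is absent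
  have hnone : ∀ p ∈ π, ¬ p ∣ Nat.card G := by
    intro p hp hd
    haveI := Fact.mk (hπ' p hp)
    obtain ⟨P⟩ : Nonempty (Sylow p G) := inferInstance
    have hPW : (P : Subgroup G) ≤ W := by
      rw [← QuotientGroup.ker_mk' W, ← Subgroup.map_eq_bot_iff]
      rw [eq_bot_iff]
      rintro _ ⟨a, ha, rfl⟩
      obtain ⟨k, hk⟩ := P.isPGroup' ⟨a, ha⟩
      by_contra hne
      have h1 : orderOf (QuotientGroup.mk' W a) ∣ p ^ k :=
        (orderOf_map_dvd _ a).trans (orderOf_dvd_of_pow_eq_one (congrArg Subtype.val hk))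
      obtain ⟨i, -, hi⟩ := (Nat.dvd_prime_pow (hπ' p hp)).1 h1
      refine hXp p hp ((dvd_pow_self p ?_).trans (hi.symm.dvd.trans (_root_.orderOf_dvd_natCard _)))
      rintro rfl
      exact hne (by simpa [orderOf_eq_one_iff] using hi)
    haveI : Group.IsNilpotent W := hWn
    have hPWn : ((P.subtype hPW : Sylow p W) : Subgroup W).Normal :=
      Sylow.normal_of_normalizerCondition Group.normalizerCondition_of_isNilpotent _
    haveI : (P : Subgroup G).Normal := by
      haveI := Sylow.characteristic_of_normal (P.subtype hPW) hPWn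
      have : ((P : Subgroup G).subgroupOf W).map W.subtype = (P : Subgroup G) :=
        Subgroup.map_subgroupOf_eq_of_le hPW
      rw [← this]
      haveI : ((P : Subgroup G).subgroupOf W).Characteristic := by rwa [← Sylow.coe_subtype P hPW]
      exact ConjAct.normal_of_characteristic_of_normal
    have hcen := le_center hc hLtop (isPiSubgroup_of_isPGroup hp (hπ' p hp) P.isPGroup')
    have hNC : normalizer ((P : Subgroup G) : Set G) ≤ centralizer ((P : Subgroup G) : Set G) :=
      fun g _ => mem_centralizer_iff.2 fun b hb => (mem_center_iff.1 (hcen hb) g).symm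
    have hcompl := MonoidHom.ker_transferSylow_isComplement' P hNC
    have hker : (MonoidHom.transferSylow P hNC).ker = ⊤ := by
      rw [eq_top_iff, ← hperf.commutator_eq_top, commutator_eq_closure, closure_le]
      rintro _ ⟨a, b, rfl⟩
      have : ∀ u v : (P : Subgroup G), u * v = v * u := fun u v =>
        Subtype.ext (mem_center_iff.1 (hcen u.2) v).symm
      rw [SetLike.mem_coe, MonoidHom.mem_ker, commutatorElement_def, map_mul, map_mul, map_mul,
        map_inv, map_inv, this (MonoidHom.transferSylow P hNC a)]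
      group
    have h1 := hcompl.card_mul_card
    rw [hker, Subgroup.card_top] at h1
    have h2 : Nat.card (P : Subgroup G) = 1 :=
      Nat.eq_of_mul_eq_mul_left Nat.card_pos (h1.trans (mul_one _).symm)
    have h3 := P.dvd_card_of_dvd_card hd
    rw [h2] at h3
    exact (hπ' p hp).not_dvd_one h3
  exact hG ⟨⊤, fun x => ⟨fun _ p hpp hd hpπ => hnone p hpπ (hd.trans (orderOf_dvd_natCard x)),
    fun _ => mem_top x⟩⟩

end Cfsg.Agent.H72.PiHom
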