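import Cfsg.Agent.H29.Ward.Torus
import Cfsg.Agent.H15.Ward.PslLocal
import Cfsg.Agent.H84.Ward.TSection
import Cfsg.Agent.Coprime.Generation
import Mathlib.GroupTheory.Transfer

/-!
# The centraliser of a split torus element for the Ree parameters

For `|F| = 3^(2m+1)` and `|G| = q³ (q³ + 1)(q - 1)` an element `u ≠ 1` of the cyclic subgroup of
order `(q-1)/2` of the second factor of `C(t)` has centraliser inside `C(t)`.
-/

set_option autoImplicit false
set_option linter.unusedSectionVars false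
set_option linter.style.haveILetI false

namespace Cfsg.Agent.H72.PiHom

open Subgroup Cfsg.Agent Cfsg.Agent.Linear.Dickson Cfsg.Agent.H29.Ward
open Cfsg.Agent.H84.Ward (TData tu)

universe u

/-- An element of odd order inverting an element makes it an involution. -/
theorem sq_eq_one_of_odd_inverts {G : Type u} [Group G] {z x : G} (hz : Odd (orderOf z))
    (h : z * x * z⁻¹ = x⁻¹) : x * x = 1 := by
  have h2 : Commute (z ^ 2) x := by
    rw [pow_two]
    show z * z * x = x * (z * z)
    calc z * z * x = z * (z * x * z⁻¹) * z := by group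
      _ = z * x⁻¹ * z := by rw [h]
      _ = (z * x * z⁻¹)⁻¹ * (z * z) := by group
      _ = x * (z * z) := by rw [h, inv_inv]
  obtain ⟨k, hk⟩ := hz
  have h3 : Commute z x := by
    have h4 := h2.pow_left (k + 1)
    rwa [← pow_mul, show 2 * (k + 1) = orderOf z + 1 by omega, pow_succ, pow_orderOf_eq_one,
      one_mul] at h4
  rw [h3.eq, mul_inv_cancel_right] at h
  exact eq_inv_iff_mul_eq_one.1 h

/-- An involution fixing only the identity of a finite subgroup it normalises inverts it. -/
theorem inverted_of_fpf {G : Type u} [Group G] [Finite G] {t : G} (ht : t * t = 1) (R : Subgroup G)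
    (hn : ∀ r ∈ R, t * r * t⁻¹ ∈ R) (hfix : ∀ r ∈ R, Commute r t → r = 1) :
    ∀ r ∈ R, t * r * t⁻¹ = r⁻¹ := by
  have hti : t⁻¹ = t := inv_eq_of_mul_eq_one_left ht
  let f : ↥R → ↥R := fun r => ⟨(r : G)⁻¹ * (t * r * t⁻¹), mul_mem (inv_mem r.2) (hn r r.2)⟩
  have hinj : Function.Injective f := by
    intro a b hab
    have h : (a : G)⁻¹ * (t * a * t⁻¹) = (b : G)⁻¹ * (t * b * t⁻¹) := congrArg Subtype.val hab
    have hc : Commute ((b : G) * (a : G)⁻¹) t := by
      have e : t * ((b : G) * (a : G)⁻¹) * t⁻¹ = (b : G) * (a : G)⁻¹ := by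
        calc t * ((b : G) * (a : G)⁻¹) * t⁻¹
            = (b : G) * ((b : G)⁻¹ * (t * b * t⁻¹)) * (t * a * t⁻¹)⁻¹ := by group
          _ = (b : G) * (a : G)⁻¹ := by rw [← h]; group
      exact (mul_inv_eq_iff_eq_mul.1 e).symm
    exact Subtype.ext (mul_inv_eq_one.1 (hfix _ (mul_mem b.2 (inv_mem a.2)) hc)).symm
  intro r hr
  obtain ⟨x, hx⟩ := Finite.surjective_of_injective hinj ⟨r, hr⟩
  have e : (x : G)⁻¹ * (t * x * t⁻¹) = r := congrArg Subtype.val hx
  rw [← e]
  calc t * ((x : G)⁻¹ * (t * x * t⁻¹)) * t⁻¹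
      = t * (x : G)⁻¹ * t * x * (t⁻¹ * t⁻¹) := by group
    _ = t * (x : G)⁻¹ * t⁻¹ * x := by rw [hti, ht, mul_one]
    _ = ((x : G)⁻¹ * (t * x * t⁻¹))⁻¹ := by group

variable {G : Type u} [Group G] [Finite G] {F : Type} [Field F] [Fintype F] {t : G}

local notation "P2" => Matrix.ProjectiveSpecialLinearGroup (Fin 2) F

/-- The parameters of a Ree group. -/
structure ReeParam (G : Type u) (F : Type) [Fintype F] : Prop where
  q_eq : ∃ m : ℕ, 1 ≤ m ∧ Fintype.card F = 3 ^ (2 * m + 1)
  card : Nat.card G =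
    Fintype.card F ^ 3 * (Fintype.card F ^ 3 + 1) * (Fintype.card F - 1)

namespace ReeParam

variable (P : ReeParam G F)
include P

theorem mod_eight : Fintype.card F % 8 = 3 := by
  obtain ⟨m, -, hq⟩ := P.q_eq
  rw [hq, pow_succ, pow_mul, Nat.mul_mod, Nat.pow_mod]
  norm_num

theorem mod_three : Fintype.card F % 3 = 0 := by
  obtain ⟨m, -, hq⟩ := P.q_eq
  rw [hq, pow_succ, Nat.mul_mod]
  norm_num

theorem mod_five : Fintype.card F % 5 = 3 ∨ Fintype.card F % 5 = 2 := by
  obtain ⟨m, -, hq⟩ := P.q_eq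
  rw [hq]
  clear hq
  induction m with
  | zero => norm_num
  | succ k ih =>
    rw [show 3 ^ (2 * (k + 1) + 1) = 9 * 3 ^ (2 * k + 1) by ring]
    omega

theorem big : 27 ≤ Fintype.card F := by
  obtain ⟨m, hm, hq⟩ := P.q_eq
  rw [hq]
  calc 27 = 3 ^ 3 := rfl
    _ ≤ 3 ^ (2 * m + 1) := Nat.pow_le_pow_right (by norm_num) (by omega)

theorem charP : CharP F 3 := by
  obtain ⟨m, -, hq⟩ := P.q_eq
  obtain ⟨p, hp⟩ := CharP.exists F
  obtain ⟨a, hpp, hpa⟩ := FiniteField.card F p
  have h3 : 3 ∣ p ^ (a : ℕ) := by rw [← hpa, hq]; exact dvd_pow_self 3 (by omega)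
  have := (Nat.prime_dvd_prime_iff_eq Nat.prime_three hpp).1 (Nat.prime_three.dvd_of_dvd_pow h3)
  subst this
  exact hp

/-- The odd order of the split torus, prime to `3`, `5`, `q + 1` and the cofactor. -/
theorem coprime_sixty {k : ℕ} (hk : 4 * k = Fintype.card F + 1) :
    Nat.Coprime ((Fintype.card F - 1) / 2) (60 * k) := by
  have h8 := P.mod_eight
  have h3 := P.mod_three
  have h5 := P.mod_five
  have hb := P.big
  set q := Fintype.card F
  set n := (q - 1) / 2 with hn
  have h2n : 2 * n + 1 = q := by omega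
  refine Nat.Coprime.mul_right ?_ ?_
  · rw [show 60 = 2 * 2 * 3 * 5 from rfl]
    have e2 : Nat.Coprime n 2 := Nat.coprime_two_right.2 (Nat.odd_iff.2 (by omega))
    have e3 : Nat.Coprime n 3 :=
      Nat.Coprime.symm ((Nat.Prime.coprime_iff_not_dvd Nat.prime_three).2 (by omega))
    have e5 : Nat.Coprime n 5 :=
      Nat.Coprime.symm ((Nat.Prime.coprime_iff_not_dvd Nat.prime_five).2 (by omega))
    exact ((e2.mul_right e2).mul_right e3).mul_right e5
  · refine Nat.coprime_of_dvd' fun d _ hd1 hd2 => ?_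
    have := Nat.dvd_sub (hd2.mul_left 2) hd1
    rwa [show 2 * k - n = 1 by omega] at this

/-- A prime divisor of `(q - 1)/2` divides the order no further. -/
theorem factorization_eq {l : ℕ} (hl : l.Prime) (hd : l ∣ (Fintype.card F - 1) / 2) :
    (Nat.card G).factorization l = ((Fintype.card F - 1) / 2).factorization l := by
  have h8 := P.mod_eight
  have h3 := P.mod_three
  have hb := P.big
  set q := Fintype.card F
  set n := (q - 1) / 2 with hn
  have h2n : 2 * n + 1 = q := by omega
  have e : Nat.card G = (q ^ 3 * (q ^ 3 + 1) * 2) * n := by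
    rw [P.card, mul_assoc (q ^ 3 * (q ^ 3 + 1)), show 2 * n = q - 1 by omega]
  have hne : q ^ 3 * (q ^ 3 + 1) * 2 ≠ 0 := by positivity
  have hl2 : l ≠ 2 := fun e => by subst e; omega
  have hlq : ¬ l ∣ q := fun h => by
    have := Nat.dvd_sub h (hd.mul_left 2)
    rw [show q - 2 * n = 1 by omega] at this
    exact hl.not_dvd_one this
  have hnd : ¬ l ∣ q ^ 3 * (q ^ 3 + 1) * 2 := by
    intro h
    rcases hl.dvd_mul.1 h with h | h
    · rcases hl.dvd_mul.1 h with h | h
      · exact hlq (hl.dvd_of_dvd_pow h)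
      · have h2 : l ∣ 2 := by
          have e2 : q ^ 3 + 1 = 2 + n * (8 * n * n + 12 * n + 6) := by rw [← h2n]; ring
          rw [e2] at h
          exact (Nat.dvd_add_left (hd.mul_right _)).1 h
        exact hl2 ((Nat.prime_dvd_prime_iff_eq hl Nat.prime_two).1 h2)
    · exact hl2 ((Nat.prime_dvd_prime_iff_eq hl Nat.prime_two).1 h)
  rw [e, Nat.factorization_mul hne (by omega), Finsupp.add_apply,
    Nat.factorization_eq_zero_of_not_dvd hnd, zero_add]

/-- The torus of an element of order dividing `(q - 1)/2`. -/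
theorem split_torus {a : P2} (ha1 : a ≠ 1) (hao : orderOf a ∣ (Fintype.card F - 1) / 2) :
    ¬ IsUni a ∧ Nat.card (cen a) = (Fintype.card F - 1) / 2 ∧ a * a ≠ 1 := by
  have h8 := P.mod_eight
  have h3 := P.mod_three
  have hb := P.big
  haveI := P.charP
  haveI : Fact (Nat.Prime 3) := ⟨Nat.prime_three⟩
  have ho1 : orderOf a ≠ 1 := fun e => ha1 (orderOf_eq_one_iff.1 e)
  have hu : ¬ IsUni a := fun h => by
    have h3' := (Nat.dvd_prime Nat.prime_three).1
      (orderOf_dvd_of_pow_eq_one (pow_char_eq_one_of_isUni 3 h))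
    rcases h3' with e | e
    · exact ho1 e
    · rw [e] at hao; omega
  refine ⟨hu, ?_, fun e => ?_⟩
  · have hd : Nat.gcd 2 (Fintype.card F - 1) = 2 := Nat.gcd_eq_left (by omega)
    rcases card_cen_cases hu with e | e <;> rw [hd] at e
    · exact e
    · exfalso
      have h1 := orderOf_dvd_natCard (cen a) (mem_cen_self a)
      rw [e] at h1
      refine ho1 (Nat.dvd_one.1 ?_)
      have := Nat.dvd_sub h1 hao
      rwa [show (Fintype.card F + 1) / 2 - (Fintype.card F - 1) / 2 = 1 by omega] at this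
  · have h2 : orderOf a ∣ 2 := orderOf_dvd_of_pow_eq_one (by rw [pow_two, e])
    rcases (Nat.dvd_prime Nat.prime_two).1 h2 with e' | e'
    · exact ho1 e'
    · rw [e'] at hao; omega

end ReeParam

variable (h : Hyp G F t) (P : ReeParam G F) (D : TData G (Matrix.ProjectiveSpecialLinearGroup (Fin 2) F))
  (hDt : D.t = t)

theorem fst_of_odd {c : Multiplicative (ZMod 2) × P2} (ho : Odd (orderOf c)) : c.1 = 1 := by
  obtain ⟨j, hj⟩ := ho
  have := congrArg Prod.fst (pow_orderOf_eq_one c)
  rwa [Prod.pow_fst, hj, pow_succ, pow_mul, pow_two, zmod_two_mul_self, one_pow, one_mul] at this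

include h P D hDt in
/-- An involution `r ≠ t` commuting with `t` and inverting `emb (1, a)` centralises no element of
odd order of `C(emb (1, a))` outside `C(t)`. -/
theorem commute_of_invol {a : P2} (ha1 : a ≠ 1) (hao : orderOf a ∣ (Fintype.card F - 1) / 2)
    {r : G} (hr : r * r = 1) (hr1 : r ≠ 1) (hrt : Commute r t) (hne : r ≠ t)
    (hry : r * D.emb (1, a) * r⁻¹ = (D.emb (1, a))⁻¹) (O : Subgroup G)
    (hOy : ∀ x ∈ O, Commute x (D.emb (1, a))) (hOodd : ∀ x ∈ O, Odd (orderOf x))
    (hOn : ∀ x ∈ O, t * x * t⁻¹ ∈ O) (hOr : ∀ x ∈ O, Commute x r)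
    (hcoset : ∀ g : G, Commute g (D.emb (1, a)) → Odd (orderOf (t * (g⁻¹ * t * g)))) :
    ∀ x ∈ O, Commute x t := by
  obtain ⟨hau, hac, ha2⟩ := P.split_torus ha1 hao
  have h8 := P.mod_eight
  have hb := P.big
  have hqodd : Odd (Fintype.card F) := h.odd
  set y := D.emb (1, a) with hy
  have hyt : Commute y t := hDt ▸ mem_centralizer_singleton_iff.1 (D.emb_mem _)
  have hsplit_odd : Odd ((Fintype.card F - 1) / 2) := Nat.odd_iff.2 (by omega)
  -- `t` inverts `O`
  have hfix : ∀ x ∈ O, Commute x t → x = 1 := by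
    intro x hx hxt
    obtain ⟨c, rfl⟩ := D.exists_emb (g := x) (hDt.symm ▸ mem_centralizer_singleton_iff.2 hxt.eq)
    obtain ⟨cr, rfl⟩ := D.exists_emb (g := r) (hDt.symm ▸ mem_centralizer_singleton_iff.2 hrt.eq)
    have ho : Odd (orderOf c) := by
      rw [← orderOf_injective D.emb D.emb_injective]; exact hOodd _ hx
    have hc1 := fst_of_odd ho
    have hca : Commute c.2 a := congrArg Prod.snd
      (D.emb_injective (by rw [map_mul, map_mul]; exact (hOy _ hx).eq) :
        c * ((1 : Multiplicative (ZMod 2)), a) = ((1 : Multiplicative (ZMod 2)), a) * c)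
    have hcm : c.2 ∈ cen a := H15.Ward.tor_centralizer hau (mem_cen_self a) ha2 hca
    have hinv : cr.2 * a * cr.2⁻¹ = a⁻¹ := congrArg Prod.snd
      (D.emb_injective (by rw [map_mul, map_mul, map_inv, map_inv]; exact hry) :
        cr * ((1 : Multiplicative (ZMod 2)), a) * cr⁻¹ = ((1 : Multiplicative (ZMod 2)), a)⁻¹)
    have hcr : Commute c.2 cr.2 := congrArg Prod.snd
      (D.emb_injective (by rw [map_mul, map_mul]; exact (hOr _ hx).eq) : c * cr = cr * c)
    have hrnot : cr.2 ∉ cen a := fun hm => ha2 (by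
      rw [cen_comm ha1 hm (mem_cen_self a), mul_inv_cancel_right] at hinv
      exact eq_inv_iff_mul_eq_one.1 hinv)
    have hca' : c.2 = 1 := by
      rcases normalizer_cases hau (g := cr.2) (fun z => by
          have hce : cen a⁻¹ = cen a := cen_eq_of_mem ha1 (inv_ne_one.2 ha1)
            (inv_mem (mem_cen_self a))
          have := mem_cen_conj cr.2 a z
          rw [hinv, hce] at this
          exact this.symm) with e | ⟨-, e⟩
      · exact absurd e hrnot
      · have h2 := e c.2 hcm
        rw [hcr.eq.symm, mul_inv_cancel_right] at h2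
        exact H29.Walter.coprime_two_of_odd (Odd.of_dvd_nat ho orderOf_snd_dvd_orderOf)
          (eq_inv_iff_mul_eq_one.1 h2)
    rw [show c = 1 from Prod.ext hc1 hca', map_one]
  have htinv := inverted_of_fpf h.mul_self O hOn hfix
  intro x₀ hx₀
  by_contra hx₀t
  have hx₀1 : x₀ ≠ 1 := fun e => hx₀t (e ▸ Commute.one_left t)
  -- an element of prime order
  obtain ⟨l, hl, hldvd⟩ := Nat.exists_prime_and_dvd
    (show orderOf x₀ ≠ 1 from fun e => hx₀1 (orderOf_eq_one_iff.1 e))
  set x := x₀ ^ (orderOf x₀ / l) with hx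
  have hxO : x ∈ O := pow_mem hx₀ _
  have hxl : orderOf x = l :=
    orderOf_pow_orderOf_div (fun e => by simpa [e] using hOodd x₀ hx₀) hldvd
  have hxodd : Odd (orderOf x) := hOodd x hxO
  have hx1 : x ≠ 1 := fun e => by rw [e, orderOf_one] at hxl; exact hl.ne_one hxl.symm
  have htx := htinv x hxO
  -- inside `C(r)`
  have h' := h.of_invol (x := r) (orderOf_eq_prime (by rw [pow_two, hr]) hr1)
  obtain ⟨e⟩ := h'.iso
  obtain ⟨her2, her1⟩ := h'.apply_self e
  set xc : centralizer ({r} : Set G) := ⟨x, mem_centralizer_singleton_iff.2 (hOr x hxO).eq⟩ with hxc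
  set tc : centralizer ({r} : Set G) := ⟨t, mem_centralizer_singleton_iff.2 hrt.symm.eq⟩ with htc
  set xb := (e xc).2 with hxb
  set tb := (e tc).2 with htb
  have hxc1 : (e xc).1 = 1 := fst_of_odd (by
    rw [MulEquiv.orderOf_eq, ← Subgroup.orderOf_coe]; exact hxodd)
  have hxbl : orderOf xb = l := by
    rw [← hxl, show orderOf x = orderOf xc from Subgroup.orderOf_coe xc,
      ← MulEquiv.orderOf_eq e xc, show e xc = ((1 : Multiplicative (ZMod 2)), xb) from
        Prod.ext hxc1 rfl, Prod.orderOf, orderOf_one, Nat.lcm_one_left]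
  have hxb1 : xb ≠ 1 := fun e => by rw [e, orderOf_one] at hxbl; exact hl.ne_one hxbl.symm
  have htb2 : tb * tb = 1 := by
    have := congrArg (fun z => (e z).2) (show tc * tc = 1 from Subtype.ext h.mul_self)
    simpa [htb] using this
  have htxb : tb * xb * tb⁻¹ = xb⁻¹ := by
    have := congrArg (fun z => (e z).2) (show tc * xc * tc⁻¹ = xc⁻¹ from Subtype.ext htx)
    simpa [htb, hxb] using this
  by_cases hu : IsUni xb
  · -- unipotent elements are not real
    obtain ⟨g, hg⟩ := exists_conj_stdUni hxb1 hu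
    have h0 := H15.Ward.uni_inverters_zero (F := F) (by omega) hg
      (fun e => hxb1 (conj_eq_one_iff.1 e))
    have : Nonempty {r : P2 // r * r = 1 ∧ (r * (g * xb * g⁻¹)) * (r * (g * xb * g⁻¹)) = 1} := by
      refine ⟨⟨g * tb * g⁻¹, ?_, ?_⟩⟩
      · rw [show g * tb * g⁻¹ * (g * tb * g⁻¹) = g * (tb * tb) * g⁻¹ by group, htb2]; group
      · have hti : tb⁻¹ = tb := inv_eq_of_mul_eq_one_left htb2
        rw [show g * tb * g⁻¹ * (g * xb * g⁻¹) * (g * tb * g⁻¹ * (g * xb * g⁻¹)) =
          g * ((tb * xb * tb) * xb) * g⁻¹ by group]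
        nth_rw 2 [← hti]
        rw [htxb]; group
    rw [Nat.card_eq_zero] at h0
    rcases h0 with h0 | h0
    · exact h0.false this.some
    · exact not_finite {r : P2 // r * r = 1 ∧ (r * (g * xb * g⁻¹)) * (r * (g * xb * g⁻¹)) = 1}
  have hd : Nat.gcd 2 (Fintype.card F - 1) = 2 := Nat.gcd_eq_left (by omega)
  have hlc : l ∣ Nat.card (cen xb) := hxbl ▸ orderOf_dvd_natCard _ (mem_cen_self xb)
  rcases card_cen_cases hu with hc | hc <;> rw [hd] at hc
  · -- a Sylow subgroup of the torus
    haveI : Fact l.Prime := ⟨hl⟩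
    have hlsplit : l ∣ (Fintype.card F - 1) / 2 := hc ▸ hlc
    have hinj : Function.Injective (D.emb.comp (MonoidHom.inr (Multiplicative (ZMod 2)) P2)) :=
      fun b b' hbb => congrArg Prod.snd (D.emb_injective hbb)
    set Ua := (cen a).map (D.emb.comp (MonoidHom.inr (Multiplicative (ZMod 2)) P2)) with hUa
    have hUacard : Nat.card ↥Ua = (Fintype.card F - 1) / 2 := by
      rw [hUa, card_map_of_injective hinj, hac]
    let S0 : Sylow l ↥Ua := default
    have hScard : Nat.card ↥((S0 : Subgroup ↥Ua).map Ua.subtype) =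
        l ^ (Nat.card G).factorization l := by
      rw [card_map_of_injective Ua.subtype_injective, S0.card_eq_multiplicity, hUacard,
        P.factorization_eq hl hlsplit]
    let SG : Sylow l G := Sylow.ofCard _ hScard
    set M := centralizer ({y} : Set G) with hM
    have hUaM : ∀ z ∈ Ua, Commute z y ∧ Commute z t := by
      rintro _ ⟨b, hb, rfl⟩
      refine ⟨?_, hDt ▸ mem_centralizer_singleton_iff.1 (D.emb_mem _)⟩
      show D.emb (1, b) * D.emb (1, a) = D.emb (1, a) * D.emb (1, b)
      rw [← map_mul, ← map_mul, Prod.mk_mul_mk, Prod.mk_mul_mk, cen_comm ha1 hb (mem_cen_self a)]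
    have hSGle : (SG : Subgroup G) ≤ M := by
      rintro _ ⟨z, -, rfl⟩
      exact mem_centralizer_singleton_iff.2 (hUaM _ z.2).1.eq
    have hxM : zpowers x ≤ M := zpowers_le.2 (mem_centralizer_singleton_iff.2 (hOy x hxO).eq)
    obtain ⟨Q, hQ⟩ := ((IsPGroup.of_card (p := l) (G := zpowers x) (n := 1)
      (by rw [Nat.card_zpowers, hxl, pow_one])).comap_of_injective M.subtype
        M.subtype_injective).exists_le_sylow
    obtain ⟨g, hg⟩ := MulAction.exists_smul_eq (↥M) Q (SG.subtype hSGle)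
    have hxQ : (⟨x, hxM (mem_zpowers x)⟩ : ↥M) ∈ (Q : Subgroup ↥M) := hQ (mem_zpowers x)
    have hgx : (g : G) * x * (g : G)⁻¹ ∈ (SG : Subgroup G) := by
      have : g * ⟨x, hxM (mem_zpowers x)⟩ * g⁻¹ ∈ ((SG.subtype hSGle : Sylow l ↥M) : Subgroup ↥M) := by
        rw [← hg, Sylow.coe_subgroup_smul]
        exact ⟨_, hxQ, rfl⟩
      exact this
    have hgxt : Commute ((g : G) * x * (g : G)⁻¹) t := by
      obtain ⟨z, -, hz⟩ := hgx
      exact hz ▸ (hUaM _ z.2).2
    -- `t` and a conjugate differ by an element of odd order inverting `x`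
    set t' := (g : G)⁻¹ * t * g with ht'
    have hxt' : t' * x * t'⁻¹ = x := by
      rw [ht', show (g : G)⁻¹ * t * g * x * ((g : G)⁻¹ * t * g)⁻¹ =
        (g : G)⁻¹ * (t * ((g : G) * x * (g : G)⁻¹) * t⁻¹) * g by group, ← hgxt.eq,
        mul_inv_cancel_right]
      group
    have hinv : (t * t') * x * (t * t')⁻¹ = x⁻¹ := by
      rw [show t * t' * x * (t * t')⁻¹ = t * (t' * x * t'⁻¹) * t⁻¹ by group, hxt', htx]
    have hzodd : Odd (orderOf (t * t')) := hcoset _ (mem_centralizer_singleton_iff.1 g.2)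
    have := sq_eq_one_of_odd_inverts hzodd hinv
    have h2 : orderOf x ∣ 2 := orderOf_dvd_of_pow_eq_one (by rw [pow_two, this])
    rw [hxl, Nat.dvd_prime Nat.prime_two] at h2
    rcases h2 with e | e
    · exact hl.ne_one e
    · rw [hxl, e] at hxodd; exact absurd hxodd (by decide)
  · -- a torus with a four group
    haveI : Fact (Nat.Prime 2) := ⟨Nat.prime_two⟩
    obtain ⟨w0, hw0⟩ := exists_prime_orderOf_dvd_card' (G := ↥(cen xb)) 2 (by rw [hc]; omega)
    set wb : P2 := (w0 : P2) with hwb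
    have hwbo : orderOf wb = 2 := by rw [hwb, Subgroup.orderOf_coe, hw0]
    have hwbx : wb * xb = xb * wb := cen_comm hxb1 w0.2 (mem_cen_self xb)
    set w : G := Subtype.val (e.symm (1, wb)) with hw
    have hwo : orderOf w = 2 := by
      rw [hw, Subgroup.orderOf_coe, MulEquiv.orderOf_eq, Prod.orderOf, orderOf_one,
        Nat.lcm_one_left, hwbo]
    have hwr : Commute w r := mem_centralizer_singleton_iff.1 (e.symm (1, wb)).2
    have hwne : w ≠ r := fun e' => by
      have h1 : e.symm (1, wb) = ⟨r, mem_centralizer_singleton_iff.2 rfl⟩ := Subtype.ext e'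
      have h2 := congrArg (fun z => (e z).2) h1
      simp only [MulEquiv.apply_symm_apply, her2] at h2
      rw [h2, orderOf_one] at hwbo
      omega
    have hw2 : w * w = 1 := by rw [← pow_two, ← hwo, pow_orderOf_eq_one]
    have hw1 : w ≠ 1 := fun e => by rw [e, orderOf_one] at hwo; omega
    have hxw : Commute x w := by
      have h1 : xc * e.symm (1, wb) = e.symm (1, wb) * xc := by
        apply e.injective
        rw [map_mul, map_mul, MulEquiv.apply_symm_apply]
        exact Prod.ext (mul_comm _ _) hwbx.symm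
      exact congrArg Subtype.val h1
    have hxK : x ∈ torusK r w :=
      subset_closure ⟨mem_centralizer_pair.2 ⟨hOr x hxO, hxw⟩, hxodd⟩
    obtain ⟨-, -, -, hK3, -⟩ := h'.torusK_facts hw2 hw1 hwr hwne
    have cfg := h'.torusCfg hw2 hw1 hwr hwne hxK hx1
    set M := centralizer ({x} : Set G) with hM
    set W' := (fourW r w).subgroupOf M
    set K' := (torusK r w).subgroupOf M
    set ym : ↥M := ⟨y, mem_centralizer_singleton_iff.2 (hOy x hxO).symm.eq⟩ with hym
    have hyo : orderOf y = orderOf a := by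
      rw [hy, orderOf_injective D.emb D.emb_injective, Prod.orderOf, orderOf_one, Nat.lcm_one_left]
    have hymo : Odd (orderOf ym) := by
      rw [← Subgroup.orderOf_coe]
      exact hsplit_odd.of_dvd_nat (hyo ▸ hao)
    have hpow : ym ^ 60 ∈ K' := by
      rcases cfg.cases with htop | ⟨hKn, ⟨-, h12⟩ | ⟨⟨_, ⟨e5⟩⟩, -⟩⟩
      · exact pow_mem (cfg.mem_K_of_odd (htop ▸ mem_top ym) hymo) 60
      · haveI := hKn
        rw [show 60 = K'.index * 5 by rw [h12], pow_mul]
        exact pow_mem (pow_index_mem K' ym) 5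
      · haveI := hKn
        have h60 : K'.index = 60 := by
          rw [index_eq_card, Nat.card_congr e5.toEquiv, nat_card_alternatingGroup, Nat.card_fin]
          rfl
        exact h60 ▸ pow_index_mem K' ym
    have hKdiv : orderOf y ∣ 60 * Nat.card ↥(torusK r w) := by
      refine orderOf_dvd_of_pow_eq_one ?_
      rw [pow_mul]
      exact congrArg Subtype.val
        (pow_card_eq_one' (x := (⟨y ^ 60, mem_subgroupOf.1 hpow⟩ : ↥(torusK r w))))
    refine ha1 (orderOf_eq_one_iff.1 (Nat.eq_one_of_dvd_coprimes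
      (P.coprime_sixty (hK3 h8)) hao (hyo ▸ hKdiv)))

include h P D hDt in
/-- **The centraliser of a split torus element lies in `C(t)`.** -/
theorem commute_of_split {a : P2} (ha1 : a ≠ 1) (hao : orderOf a ∣ (Fintype.card F - 1) / 2)
    {g : G} (hg : Commute g (D.emb (1, a))) : Commute g t := by
  haveI : Fact (Nat.Prime 2) := ⟨Nat.prime_two⟩
  obtain ⟨hau, hac, ha2⟩ := P.split_torus ha1 hao
  have h8 := P.mod_eight
  have hb := P.big
  set y := D.emb (1, a) with hy
  have hyt : Commute y t := hDt ▸ mem_centralizer_singleton_iff.1 (D.emb_mem _)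
  set M := centralizer ({y} : Set G) with hM
  set tc : ↥M := ⟨t, mem_centralizer_singleton_iff.2 hyt.symm.eq⟩ with htc
  have htc2 : orderOf tc = 2 := by rw [← Subgroup.orderOf_coe, h.invol]
  obtain ⟨S, hS⟩ := (IsPGroup.of_card (p := 2) (G := zpowers tc) (n := 1)
    (by rw [Nat.card_zpowers, htc2, pow_one])).exists_le_sylow
  have htS : tc ∈ (S : Subgroup ↥M) := hS (mem_zpowers tc)
  have hSeq : (S : Subgroup ↥M) = zpowers tc := by
    refine le_antisymm (fun x hx => ?_) hS
    have hQ : IsPGroup 2 ↥((S : Subgroup ↥M).map M.subtype) := S.isPGroup'.map _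
    have hxt : Commute (x : G) t := h.comm_two hQ (mem_map_of_mem _ hx) (mem_map_of_mem _ htS)
    have hxx : (x : G) * (x : G) = 1 := h.sq_of_two hQ (mem_map_of_mem _ hx)
    obtain ⟨c, hc⟩ := D.exists_emb (g := (x : G)) (hDt.symm ▸ mem_centralizer_singleton_iff.2 hxt.eq)
    have hxy : Commute (x : G) y := mem_centralizer_singleton_iff.1 x.2
    have hca : Commute c.2 a := congrArg Prod.snd
      (D.emb_injective (by rw [map_mul, map_mul, hc]; exact hxy.eq) :
        c * ((1 : Multiplicative (ZMod 2)), a) = ((1 : Multiplicative (ZMod 2)), a) * c)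
    have hcm : c.2 ∈ cen a := H15.Ward.tor_centralizer hau (mem_cen_self a) ha2 hca
    have hc2 : c.2 * c.2 = 1 := congrArg Prod.snd
      (D.emb_injective (by rw [map_mul, hc, hxx, map_one]) : c * c = 1)
    have hc1 : c.2 = 1 := H29.Walter.coprime_two_of_odd
      (Odd.of_dvd_nat (hac ▸ Nat.odd_iff.2 (by omega)) (orderOf_dvd_natCard _ hcm)) hc2
    rcases zmod_two_cases c.1 with e | e
    · have hx1 : x = 1 := Subtype.ext (by
        rw [← hc, show c = 1 from Prod.ext e hc1, map_one]; rfl)
      rw [hx1]; exact one_mem _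
    · have hxt1 : x = tc := Subtype.ext (by
        rw [← hc, show c = (tu, (1 : P2)) from Prod.ext e hc1, D.emb_t, hDt])
      rw [hxt1]; exact mem_zpowers tc
  have hScard : Nat.card ↥(S : Subgroup ↥M) = 2 := by rw [hSeq, Nat.card_zpowers, htc2]
  have hScases : ∀ x ∈ (S : Subgroup ↥M), x = 1 ∨ x = tc := fun x hx => by
    obtain ⟨i, rfl⟩ := mem_zpowers_iff.1 (hSeq ▸ hx)
    rw [← zpow_mod_orderOf, htc2]
    rcases Int.emod_two_eq_zero_or_one i with e | e <;> simp [e]
  have hSn : normalizer ((S : Subgroup ↥M) : Set ↥M) ≤ centralizer ((S : Subgroup ↥M) : Set ↥M) := by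
    intro n hn s hs
    rcases hScases s hs with rfl | rfl
    · rw [one_mul, mul_one]
    rcases hScases _ ((mem_normalizer_iff.1 hn tc).1 htS) with e | e
    · exact absurd (conj_eq_one_iff.1 e) (fun e' => by rw [e', orderOf_one] at htc2; omega)
    · exact (mul_inv_eq_iff_eq_mul.1 e).symm
  have hcomp := MonoidHom.ker_transferSylow_isComplement' S hSn
  set O := (MonoidHom.transferSylow S hSn).ker with hOdef
  have hOcard : Odd (Nat.card ↥O) := by
    rw [← hcomp.index_eq_card]
    exact Nat.odd_iff.2 (Nat.two_dvd_ne_zero.1 S.not_dvd_index)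
  have hOidx : O.index = 2 := by rw [hcomp.symm.index_eq_card, hScard]
  have hmemO : ∀ x : ↥M, Odd (orderOf x) → x ∈ O := fun x ⟨j, hj⟩ => by
    have h2 : x ^ 2 ∈ O := hOidx ▸ pow_index_mem O x
    have := pow_mem h2 (j + 1)
    rwa [← pow_mul, show 2 * (j + 1) = orderOf x + 1 by omega, pow_succ, pow_orderOf_eq_one,
      one_mul] at this
  have hOo : ∀ x ∈ O, Odd (orderOf x) := fun x hx =>
    hOcard.of_dvd_nat (orderOf_dvd_natCard O hx)
  set K := O.map M.subtype with hK
  have hKodd : ∀ x ∈ K, Odd (orderOf x) := by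
    rintro _ ⟨x, hx, rfl⟩
    rw [orderOf_injective M.subtype M.subtype_injective]
    exact hOo x hx
  have hKy : ∀ x ∈ K, Commute x y := by
    rintro _ ⟨x, -, rfl⟩
    exact mem_centralizer_singleton_iff.1 x.2
  have hKof : ∀ x : G, Commute x y → Odd (orderOf x) → x ∈ K := fun x hxy hxo =>
    ⟨⟨x, mem_centralizer_singleton_iff.2 hxy.eq⟩, hmemO _ (by rwa [← Subgroup.orderOf_coe]), rfl⟩
  have hcoset : ∀ g : G, Commute g y → Odd (orderOf (t * (g⁻¹ * t * g))) := by
    intro g hgy
    set gc : ↥M := ⟨g, mem_centralizer_singleton_iff.2 hgy.eq⟩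
    have htO : tc ∉ O := fun hm => by
      have := hOo tc hm
      rw [htc2] at this; exact absurd this (by decide)
    have hmem : tc * (gc⁻¹ * tc * gc) ∈ O := by
      rw [mul_mem_iff_of_index_two hOidx]
      refine iff_of_false htO fun hm => htO ?_
      have := (MonoidHom.normal_ker (MonoidHom.transferSylow S hSn)).conj_mem _ hm gc
      rwa [show gc * (gc⁻¹ * tc * gc) * gc⁻¹ = tc by group] at this
    have := hKodd _ ⟨_, hmem, rfl⟩
    simpa [gc, tc] using this
  -- the four group
  obtain ⟨s, hs2, hsinv⟩ := H15.Ward.tor_inverter hau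
  have hs1 : s ≠ 1 := fun e => ha2 (by
    have h1 := hsinv a (mem_cen_self a)
    rw [e, one_mul, inv_one, mul_one] at h1
    exact eq_inv_iff_mul_eq_one.1 h1)
  set v := D.emb (1, s) with hv
  have hv2 : v * v = 1 := by rw [hv, ← map_mul, Prod.mk_mul_mk, one_mul, hs2]; exact map_one _
  have hv1 : v ≠ 1 := fun e => hs1 (congrArg Prod.snd (D.emb_injective (e.trans (map_one D.emb).symm)))
  have hvt : Commute v t := hDt ▸ mem_centralizer_singleton_iff.1 (D.emb_mem _)
  have hvne : v ≠ t := fun e => hs1 (congrArg Prod.snd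
    (D.emb_injective (e.trans (hDt.symm.trans D.emb_t.symm))))
  have hvy : v * y * v⁻¹ = y⁻¹ := by
    rw [hv, hy, ← map_inv, ← map_mul, ← map_mul, ← map_inv]
    exact congrArg D.emb (Prod.ext (by simp) (hsinv a (mem_cen_self a)))
  haveI hk := isKleinFour_fourW h.mul_self hv2 hvt.symm h.ne_one hv1 (Ne.symm hvne)
  haveI : IsMulCommutative ↥(fourW t v) := IsKleinFour.isMulCommutative
  have hnorm : ∀ n : G, n * y * n⁻¹ = y ∨ n * y * n⁻¹ = y⁻¹ → ∀ x, x ∈ K → n * x * n⁻¹ ∈ K := by
    intro n hn x hx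
    refine hKof _ ?_ ?_
    · have h1 : Commute (n * x * n⁻¹) (n * y * n⁻¹) := by
        show n * x * n⁻¹ * (n * y * n⁻¹) = n * y * n⁻¹ * (n * x * n⁻¹)
        rw [show n * x * n⁻¹ * (n * y * n⁻¹) = n * (x * y) * n⁻¹ by group, (hKy x hx).eq]
        group
      rcases hn with e | e <;> rw [e] at h1
      · exact h1
      · simpa using h1.inv_right
    · have : orderOf (n * x * n⁻¹) = orderOf x :=
        (orderOf_injective (MulAut.conj n).toMonoidHom (MulAut.conj n).injective x).symm ▸ rfl
      rw [show n * x * n⁻¹ = (MulAut.conj n).toMonoidHom x from rfl,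
        orderOf_injective (MulAut.conj n).toMonoidHom (MulAut.conj n).injective x]
      exact hKodd x hx
  have hty : t * y * t⁻¹ = y := by rw [hyt.symm.eq, mul_inv_cancel_right]
  have htvy : t * v * y * (t * v)⁻¹ = y⁻¹ := by
    rw [show t * v * y * (t * v)⁻¹ = t * (v * y * v⁻¹) * t⁻¹ by group, hvy]
    calc t * y⁻¹ * t⁻¹ = (t * y * t⁻¹)⁻¹ := by group
      _ = y⁻¹ := by rw [hty]
  have hKle : K ≤ centralizer ({t} : Set G) := by
    refine Coprime.le_of_centralizer_noncyclic_le (A := fourW t v) ?_ ?_ ?_ ?_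
    · exact IsKleinFour.not_isCyclic
    · refine (closure_le _).2 ?_
      rintro n hn
      have hn2 : n⁻¹ = n := by
        rcases hn with rfl | rfl
        · exact inv_eq_of_mul_eq_one_left h.mul_self
        · exact inv_eq_of_mul_eq_one_left hv2
      have hny : n * y * n⁻¹ = y ∨ n * y * n⁻¹ = y⁻¹ := by
        rcases hn with rfl | rfl
        · exact Or.inl hty
        · exact Or.inr hvy
      refine mem_normalizer_iff.2 fun x => ⟨hnorm n hny x, fun hx => ?_⟩
      have := hnorm n hny _ hx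
      rwa [show n * (n * x * n⁻¹) * n⁻¹ = (n * n) * x * (n * n)⁻¹ by group,
        show n * n = 1 by rw [← mul_inv_cancel n, hn2], one_mul, inv_one, mul_one] at this
    · rw [IsKleinFour.card_four, show (4 : ℕ) = 2 ^ 2 from rfl, card_map_of_injective M.subtype_injective]
      exact (Nat.coprime_two_left.2 hOcard).pow_left 2
    · intro r hr hr1 x ⟨hxK, hxr⟩
      have hxr' : Commute x r := mem_centralizer_singleton_iff.1 hxr
      have hgen : ∀ r : G, r * r = 1 → r ≠ 1 → Commute r t → r ≠ t → r * y * r⁻¹ = y⁻¹ →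
          Commute x r → Commute x t := fun r hr hr1 hrt hne hry hxr =>
        commute_of_invol h P D hDt ha1 hao hr hr1 hrt hne hry (K ⊓ centralizer ({r} : Set G))
          (fun z hz => hKy z hz.1) (fun z hz => hKodd z hz.1) (fun z hz => ⟨hnorm t (Or.inl hty) z hz.1,
            mem_centralizer_singleton_iff.2 (by
              have hzr := mem_centralizer_singleton_iff.1 hz.2
              calc t * z * t⁻¹ * r = t * z * (t⁻¹ * r) := by group
                _ = t * (z * r) * t⁻¹ := by rw [(hrt.symm.inv_left).eq]; group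
                _ = r * (t * z * t⁻¹) := by rw [hzr, ← mul_assoc, ← hrt.eq]; group)⟩)
          (fun z hz => mem_centralizer_singleton_iff.1 hz.2) hcoset x
          ⟨hxK, mem_centralizer_singleton_iff.2 hxr.eq⟩
      refine mem_centralizer_singleton_iff.2 ?_
      rcases H29.Walter.mem_closure_pair_cases h.mul_self hv2 hvt.symm hr with rfl | rfl | rfl | rfl
      · exact absurd rfl hr1
      · exact hxr'.eq
      · exact (hgen _ hv2 hv1 hvt hvne hvy hxr').eq
      · refine (hgen _ ?_ hr1 ((Commute.refl t).mul_left hvt) ?_ htvy hxr').eq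
        · rw [mul_assoc, ← mul_assoc v t v, hvt.eq, mul_assoc t v v, hv2, mul_one, h.mul_self]
        · exact fun e => hv1 (mul_left_cancel (e.trans (mul_one t).symm))
  -- the coset `O t`
  set gc : ↥M := ⟨g, mem_centralizer_singleton_iff.2 hg.eq⟩
  by_cases hgO : gc ∈ O
  · exact mem_centralizer_singleton_iff.1 (hKle ⟨gc, hgO, rfl⟩)
  · have htO : tc ∉ O := fun hm => by
      have := hOo tc hm
      rw [htc2] at this; exact absurd this (by decide)
    have hm : gc * tc ∈ O := by
      rw [mul_mem_iff_of_index_two hOidx]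
      exact iff_of_false hgO htO
    have h1 : Commute (g * t) t := mem_centralizer_singleton_iff.1 (hKle ⟨gc * tc, hm, rfl⟩)
    have h2 := h1.mul_left (Commute.refl t)
    rwa [mul_assoc, h.mul_self, mul_one] at h2

end Cfsg.Agent.H72.PiHom
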