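import Cfsg.Agent.H72.PiHom.ReeCen
import Cfsg.Agent.H15.Ward.OddInd
import Cfsg.Agent.CharInduce.Induce
import Cfsg.Agent.CharInduce.Monomial

/-!
# The exceptional functions of the split torus for the Ree parameters

For `A = ⟨t⟩ × U`, `U` the torus of order `(q-1)/2`, the functions induced from `χ ⊗ (1 - ψ)` give
integral vectors on the irreducible characters with norm three, orthogonal to the degrees and to the
values at `t`.
-/

set_option autoImplicit false
set_option linter.unusedSectionVars false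
set_option linter.style.haveILetI false

namespace Cfsg.Agent.H72.PiHom

open Subgroup Cfsg Cfsg.Agent Cfsg.Agent.CharBasic Cfsg.Agent.CharInduce
open Cfsg.Agent.Linear.Dickson Cfsg.Agent.H29.Ward
open Cfsg.Agent.H84.Ward (TData VanEven tu z2_cases tu_ne_one tu_mul_self tu_pow_odd sgn)
open scoped ComplexConjugate

universe u

/-- The two linear characters of the group of order two. -/
noncomputable def zchar : Bool → (Multiplicative (ZMod 2) →* ℂˣ)
  | true => 1
  | false => sgn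

/-- The sign of the linear character at the involution. -/
def zsign : Bool → ℤ
  | true => 1
  | false => -1

theorem zchar_tu (b : Bool) : ((zchar b tu : ℂˣ) : ℂ) = (zsign b : ℂ) := by
  cases b <;> simp [zchar, zsign, sgn]

theorem sum_z2 {M : Type*} [AddCommMonoid M] (f : Multiplicative (ZMod 2) → M) :
    ∑ z, f z = f 1 + f tu := by
  rw [show (Finset.univ : Finset (Multiplicative (ZMod 2))) = {1, tu} by decide,
    Finset.sum_pair tu_ne_one.symm]

theorem sum_zchar (b c : Bool) :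
    ∑ z, ((zchar b z : ℂˣ) : ℂ) * ((zchar c z : ℂˣ) : ℂ) = if b = c then 2 else 0 := by
  rw [sum_z2, map_one, map_one, zchar_tu, zchar_tu]
  cases b <;> cases c <;> simp [zsign] <;> norm_num

variable {G : Type u} [Group G] [Fintype G] {F : Type} [Field F] [Fintype F] {t : G}

local notation "P2" => Matrix.ProjectiveSpecialLinearGroup (Fin 2) F

/-- The split torus with its centraliser property. -/
structure SplitCfg (D : TData G (Matrix.ProjectiveSpecialLinearGroup (Fin 2) F))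
    (U : Subgroup (Matrix.ProjectiveSpecialLinearGroup (Fin 2) F)) : Prop where
  odd : Odd (Nat.card ↥U)
  comm : ∀ x ∈ U, ∀ y ∈ U, Commute x y
  cent : ∀ x ∈ U, x ≠ 1 → ∀ g, Commute g x → g ∈ U
  fus : ∀ x ∈ U, x ≠ 1 → ∀ g, g⁻¹ * x * g ∈ U → g⁻¹ * x * g = x ∨ g⁻¹ * x * g = x⁻¹
  inv : ∃ s, ∀ x ∈ U, s⁻¹ * x * s = x⁻¹
  big : ∀ x ∈ U, x ≠ 1 → ∀ g : G, Commute g (D.emb (1, x)) → Commute g D.t

namespace SplitCfg

variable {D : TData G (Matrix.ProjectiveSpecialLinearGroup (Fin 2) F)}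
  {U : Subgroup (Matrix.ProjectiveSpecialLinearGroup (Fin 2) F)} (S : SplitCfg D U)

/-- The inclusion of `2 × U`. -/
def jU (D : TData G (Matrix.ProjectiveSpecialLinearGroup (Fin 2) F))
    (U : Subgroup (Matrix.ProjectiveSpecialLinearGroup (Fin 2) F)) :
    Multiplicative (ZMod 2) × ↥U →* G :=
  D.emb.comp ((MonoidHom.id _).prodMap U.subtype)

theorem jU_apply (c : Multiplicative (ZMod 2) × ↥U) : jU D U c = D.emb (c.1, (c.2 : P2)) := rfl

theorem jU_injective : Function.Injective (jU D U) := fun a b hab => by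
  have h := D.emb_injective (by rw [← jU_apply, ← jU_apply]; exact hab :
    D.emb (a.1, (a.2 : P2)) = D.emb (b.1, (b.2 : P2)))
  exact Prod.ext (congrArg Prod.fst h :) (Subtype.ext (congrArg Prod.snd h :))

/-- The subgroup `2 × U` of `G`. -/
noncomputable def A (D : TData G (Matrix.ProjectiveSpecialLinearGroup (Fin 2) F))
    (U : Subgroup (Matrix.ProjectiveSpecialLinearGroup (Fin 2) F)) : Subgroup G :=
  (jU D U).range

/-- `2 × U` is isomorphic to its image. -/
noncomputable def eA (D : TData G (Matrix.ProjectiveSpecialLinearGroup (Fin 2) F))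
    (U : Subgroup (Matrix.ProjectiveSpecialLinearGroup (Fin 2) F)) :
    Multiplicative (ZMod 2) × ↥U ≃* ↥(A D U) :=
  MonoidHom.ofInjective jU_injective

theorem eA_coe (c : Multiplicative (ZMod 2) × ↥U) : ((eA D U c : ↥(A D U)) : G) = jU D U c := rfl

theorem card_A : Nat.card ↥(A D U) = 2 * Nat.card ↥U := by
  rw [← Nat.card_congr (eA D U).toEquiv, Nat.card_prod]
  simp

/-- `χ ⊗ (1 - ψ)` on `2 × U`. -/
noncomputable def phi (D : TData G (Matrix.ProjectiveSpecialLinearGroup (Fin 2) F))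
    (U : Subgroup (Matrix.ProjectiveSpecialLinearGroup (Fin 2) F)) (b : Bool) (ψ : ↥U →* ℂˣ)
    (x : ↥(A D U)) : ℂ :=
  ((zchar b ((eA D U).symm x).1 : ℂˣ) : ℂ) * (1 - (ψ ((eA D U).symm x).2 : ℂ))

theorem phi_eA (b : Bool) (ψ : ↥U →* ℂˣ) (c : Multiplicative (ZMod 2) × ↥U) :
    phi D U b ψ (eA D U c) = ((zchar b c.1 : ℂˣ) : ℂ) * (1 - (ψ c.2 : ℂ)) := by
  simp [phi]

/-- The exceptional function. -/
noncomputable def Psi (D : TData G (Matrix.ProjectiveSpecialLinearGroup (Fin 2) F))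
    (U : Subgroup (Matrix.ProjectiveSpecialLinearGroup (Fin 2) F)) (b : Bool) (ψ : ↥U →* ℂˣ) :
    G → ℂ :=
  indFun (A D U) (phi D U b ψ)

theorem isGen_Psi (b : Bool) (ψ : ↥U →* ℂˣ) : IsGeneralizedCharacter G (Psi D U b ψ) := by
  haveI : Fintype ↥(A D U) := Fintype.ofFinite _
  refine IsGen.ind _ ?_
  let f : ↥(A D U) →* ℂˣ := ((zchar b).comp (MonoidHom.fst _ _)).comp (eA D U).symm.toMonoidHom
  let f' : ↥(A D U) →* ℂˣ := (((zchar b).comp (MonoidHom.fst _ _)) *
    (ψ.comp (MonoidHom.snd _ _))).comp (eA D U).symm.toMonoidHom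
  refine ⟨_, _, isCharacter_hom f, isCharacter_hom f', ?_⟩
  funext x
  simp [phi, f, f', mul_sub]

theorem Psi_one (b : Bool) (ψ : ↥U →* ℂˣ) : Psi D U b ψ 1 = 0 := by
  rw [Psi, indFun_one, phi, map_one]
  simp

theorem inner_Psi (b : Bool) (ψ : ↥U →* ℂˣ) [Fintype ↥U] {f : G → ℂ} (hf : IsClassFunction G f) :
    classInner (Psi D U b ψ) f = (2 * (Nat.card ↥U : ℂ))⁻¹ *
      ∑ z : Multiplicative (ZMod 2), ∑ x : ↥U,
        ((zchar b z : ℂˣ) : ℂ) * (1 - (ψ x : ℂ)) * conj (f (D.emb (z, (x : P2)))) := by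
  haveI : Fintype ↥(A D U) := Fintype.ofFinite _
  rw [Psi, classInner_indFun_left _ _ _ hf, ← classInner_comp_mulEquiv (eA D U), classInner_def,
    Nat.card_prod, Fintype.sum_prod_type]
  simp only [phi_eA, eA_coe, jU_apply]
  rw [show Nat.card (Multiplicative (ZMod 2)) = 2 by simp]
  push_cast
  rfl

include S

theorem odd_orderOf (x : ↥U) : Odd (orderOf (x : P2)) :=
  S.odd.of_dvd_nat (orderOf_dvd_natCard U x.2)

/-- The fusion in `G` of the elements of `2 × U` outside `⟨t⟩`. -/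
theorem fusion {z z' : Multiplicative (ZMod 2)} {x x' : ↥U} (hx : x ≠ 1) {g : G}
    (h : g⁻¹ * D.emb (z, (x : P2)) * g = D.emb (z', (x' : P2))) :
    z' = z ∧ (x' = x ∨ x' = x⁻¹) := by
  have hxP : (x : P2) ≠ 1 := fun e => hx (Subtype.ext e)
  have hpow : ∀ (z : Multiplicative (ZMod 2)) (y : ↥U),
      D.emb (z, (y : P2)) ^ (Nat.card ↥U + 1) = D.emb (1, (y : P2)) := fun z y => by
    obtain ⟨k, hk⟩ := S.odd
    rw [← map_pow, Prod.pow_mk, pow_succ (y : P2),
      show (y : P2) ^ Nat.card ↥U = 1 from congrArg Subtype.val (pow_card_eq_one' (x := y)),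
      one_mul, show z ^ (Nat.card ↥U + 1) = 1 by
        rw [hk, show 2 * k + 1 + 1 = 2 * (k + 1) by ring, pow_mul, pow_two, zmod_two_mul_self,
          one_pow]]
  have h1 : g⁻¹ * D.emb (1, (x : P2)) * g = D.emb (1, (x' : P2)) := by
    rw [← hpow z x, ← hpow z' x', ← h]
    have e := conj_pow (a := g⁻¹) (b := D.emb (z, (x : P2))) (i := Nat.card ↥U + 1)
    rw [inv_inv] at e
    exact e.symm
  have hx'P : (x' : P2) ≠ 1 := fun e => hxP (by
    rw [e, show ((1 : Multiplicative (ZMod 2)), (1 : P2)) = 1 from rfl, map_one] at h1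
    have h2 : D.emb (1, (x : P2)) = D.emb (1, 1) := by
      rw [show D.emb (1, (x : P2)) = g * (g⁻¹ * D.emb (1, (x : P2)) * g) * g⁻¹ by group, h1,
        show ((1 : Multiplicative (ZMod 2)), (1 : P2)) = 1 from rfl, map_one]
      group
    exact congrArg Prod.snd (D.emb_injective h2))
  -- `g` fixes `t`
  have hcomm : Commute (g⁻¹ * D.t * g) (D.emb (1, (x' : P2))) := by
    have hc : Commute D.t (D.emb (1, (x : P2))) :=
      (mem_centralizer_singleton_iff.1 (D.emb_mem _)).symm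
    rw [← h1]
    show _ = _
    calc g⁻¹ * D.t * g * (g⁻¹ * D.emb (1, (x : P2)) * g)
        = g⁻¹ * (D.t * D.emb (1, (x : P2))) * g := by group
      _ = g⁻¹ * D.emb (1, (x : P2)) * g * (g⁻¹ * D.t * g) := by rw [hc.eq]; group
  obtain ⟨c, hc⟩ := D.exists_emb (g := g⁻¹ * D.t * g)
    (mem_centralizer_singleton_iff.2 (S.big _ x'.2 hx'P _ hcomm).eq)
  have hc2 : c * c = 1 := D.emb_injective (by
    rw [map_mul, hc, map_one, show g⁻¹ * D.t * g * (g⁻¹ * D.t * g) = g⁻¹ * (D.t * D.t) * g by group,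
      D.t_sq]
    group)
  have hcU : c.2 ∈ U := S.cent _ x'.2 hx'P _ (congrArg Prod.snd
    (D.emb_injective (by rw [map_mul, map_mul, hc]; exact hcomm.eq) :
      c * ((1 : Multiplicative (ZMod 2)), (x' : P2)) =
        ((1 : Multiplicative (ZMod 2)), (x' : P2)) * c))
  have hc21 : c.2 = 1 := H29.Walter.coprime_two_of_odd (S.odd_orderOf ⟨c.2, hcU⟩)
    (congrArg Prod.snd hc2)
  have hgt : g⁻¹ * D.t * g = D.t := by
    rcases z2_cases c.1 with e | e
    · exfalso
      rw [show c = 1 from Prod.ext e hc21, map_one] at hc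
      exact D.t_ne_one (by
        rw [show D.t = g * (g⁻¹ * D.t * g) * g⁻¹ by group, ← hc]; group)
    · rw [← hc, show c = (tu, (1 : P2)) from Prod.ext e hc21, D.emb_t]
  obtain ⟨d, rfl⟩ := D.exists_emb (g := g) (mem_centralizer_singleton_iff.2 (by
    calc g * D.t = g * (g⁻¹ * D.t * g) := by rw [hgt]
      _ = D.t * g := by group))
  have h2 : d⁻¹ * (z, (x : P2)) * d = (z', (x' : P2)) :=
    D.emb_injective (by rw [map_mul, map_mul, map_inv]; exact h)
  have hz : z' = z := by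
    have := congrArg Prod.fst h2
    simp only [Prod.fst_mul, Prod.fst_inv] at this
    rw [← this, mul_comm d.1⁻¹ z, inv_mul_cancel_right]
  have hs : d.2⁻¹ * (x : P2) * d.2 = (x' : P2) := congrArg Prod.snd h2
  rcases S.fus _ x.2 hxP d.2 (hs ▸ x'.2) with e | e
  · exact ⟨hz, Or.inl (Subtype.ext (hs.symm.trans e))⟩
  · exact ⟨hz, Or.inr (Subtype.ext (hs.symm.trans e))⟩

/-- The centraliser of an element of `2 × U` outside `⟨t⟩`. -/
theorem card_centralizer (z : Multiplicative (ZMod 2)) {x : ↥U} (hx : x ≠ 1) :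
    Nat.card (centralizer ({D.emb (z, (x : P2))} : Set G)) = Nat.card ↥(A D U) := by
  suffices e : centralizer ({D.emb (z, (x : P2))} : Set G) = A D U by rw [e]
  have hxP : (x : P2) ≠ 1 := fun e => hx (Subtype.ext e)
  refine le_antisymm (fun g hg => ?_) ?_
  · have hg' : g * D.emb (z, (x : P2)) = D.emb (z, (x : P2)) * g :=
      mem_centralizer_singleton_iff.1 hg
    have hp : Commute g (D.emb (z, (x : P2)) ^ (Nat.card ↥U + 1)) := Commute.pow_right hg' _
    have hy : D.emb (z, (x : P2)) ^ (Nat.card ↥U + 1) = D.emb (1, (x : P2)) := by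
      obtain ⟨k, hk⟩ := S.odd
      rw [← map_pow, Prod.pow_mk, pow_succ (x : P2),
        show (x : P2) ^ Nat.card ↥U = 1 from congrArg Subtype.val (pow_card_eq_one' (x := x)),
        one_mul, show z ^ (Nat.card ↥U + 1) = 1 by
          rw [hk, show 2 * k + 1 + 1 = 2 * (k + 1) by ring, pow_mul, pow_two, zmod_two_mul_self,
            one_pow]]
    rw [hy] at hp
    obtain ⟨c, rfl⟩ := D.exists_emb
      (mem_centralizer_singleton_iff.2 (S.big _ x.2 hxP g hp).eq)
    have hcU : c.2 ∈ U := S.cent _ x.2 hxP _ (congrArg Prod.snd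
      (D.emb_injective (by rw [map_mul, map_mul]; exact hp.eq) :
        c * ((1 : Multiplicative (ZMod 2)), (x : P2)) =
          ((1 : Multiplicative (ZMod 2)), (x : P2)) * c))
    exact ⟨(c.1, ⟨c.2, hcU⟩), rfl⟩
  · rintro _ ⟨c, rfl⟩
    refine mem_centralizer_singleton_iff.2 ?_
    rw [jU_apply, ← map_mul, ← map_mul]
    exact congrArg D.emb (Prod.ext (mul_comm _ _) (S.comm _ c.2.2 _ x.2).eq)

/-- The values on `2 × U`. -/
theorem Psi_emb (b : Bool) (ψ : ↥U →* ℂˣ) (z : Multiplicative (ZMod 2)) {x : ↥U} (hx : x ≠ 1) :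
    Psi D U b ψ (D.emb (z, (x : P2))) =
      ((zchar b z : ℂˣ) : ℂ) * (2 - (ψ x : ℂ) - (ψ x : ℂ)⁻¹) := by
  classical
  set g₀ := D.emb (z, (x : P2)) with hg₀
  set g₁ := D.emb (z, ((x⁻¹ : ↥U) : P2)) with hg₁
  obtain ⟨s, hs⟩ := S.inv
  set w := D.emb (1, s) with hw
  have hw01 : w⁻¹ * g₀ * w = g₁ := by
    rw [hw, hg₀, hg₁, ← map_inv, ← map_mul, ← map_mul]
    exact congrArg D.emb (Prod.ext (by simp) (by simpa using hs _ x.2))
  have hne : g₀ ≠ g₁ := fun e => by
    have h1 : x = x⁻¹ := Subtype.ext (congrArg Prod.snd (D.emb_injective e))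
    exact hx (Subtype.ext (H29.Walter.coprime_two_of_odd (S.odd_orderOf x)
      (congrArg Subtype.val (eq_inv_iff_mul_eq_one.1 h1))))
  have hsum : ∀ g : G, extendByZero (A D U) (phi D U b ψ) (g⁻¹ * g₀ * g) =
      (if g⁻¹ * g₀ * g = g₀ then ((zchar b z : ℂˣ) : ℂ) * (1 - (ψ x : ℂ)) else 0) +
        (if g⁻¹ * g₀ * g = g₁ then ((zchar b z : ℂˣ) : ℂ) * (1 - (ψ x : ℂ)⁻¹) else 0) := by
    intro g
    by_cases hg : g⁻¹ * g₀ * g ∈ A D U
    · obtain ⟨⟨z', x'⟩, hc⟩ := hg
      rw [← hc]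
      rw [jU_apply] at hc
      have hval : ∀ c, extendByZero (A D U) (phi D U b ψ) (jU D U c) =
          ((zchar b c.1 : ℂˣ) : ℂ) * (1 - (ψ c.2 : ℂ)) := fun c => by
        rw [← eA_coe, extendByZero_coe, phi_eA]
      rw [hval]
      obtain ⟨rfl, rfl | rfl⟩ := S.fusion hx hc.symm
      · rw [jU_apply, if_pos rfl, if_neg hne, add_zero]
      · rw [jU_apply, if_neg hne.symm, if_pos rfl, zero_add, map_inv, Units.val_inv_eq_inv_val]
    · rw [extendByZero_of_not_mem _ hg, if_neg (fun e => hg (by rw [e]; exact ⟨(z, x), rfl⟩)),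
        if_neg (fun e => hg (by rw [e]; exact ⟨(z, x⁻¹), rfl⟩)), add_zero]
  have hc1 : (Finset.univ.filter fun g : G => g⁻¹ * g₀ * g = g₀).card =
      Nat.card ↥(A D U) := by
    rw [← S.card_centralizer z hx, ← Fintype.card_subtype, ← Nat.card_eq_fintype_card]
    refine Nat.card_congr (Equiv.subtypeEquivRight fun g => ?_)
    rw [mem_centralizer_singleton_iff, mul_assoc, inv_mul_eq_iff_eq_mul]
    exact eq_comm
  have hc2 : (Finset.univ.filter fun g : G => g⁻¹ * g₀ * g = g₁).card =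
      Nat.card ↥(A D U) := by
    rw [← hc1]
    refine (Finset.card_equiv (Equiv.mulRight w) fun g => ?_).symm
    simp only [Finset.mem_filter, Finset.mem_univ, true_and, Equiv.coe_mulRight]
    rw [show (g * w)⁻¹ * g₀ * (g * w) = w⁻¹ * (g⁻¹ * g₀ * g) * w by group, ← hw01]
    simp only [mul_left_inj, mul_right_inj]
  rw [Psi, indFun_apply, Finset.sum_congr rfl fun g _ => hsum g, Finset.sum_add_distrib,
    ← Finset.sum_filter, ← Finset.sum_filter, Finset.sum_const, Finset.sum_const, hc1, hc2,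
    nsmul_eq_mul, nsmul_eq_mul]
  have h0 := card_ne_zero_complex ↥(A D U)
  field_simp
  ring

open scoped Classical in
/-- The inner products of the exceptional functions. -/
theorem inner_Psi_Psi {b c : Bool} {ψ μ : ↥U →* ℂˣ} (hψ : ψ ≠ 1) (hμ : μ ≠ 1) :
    classInner (Psi D U b ψ) (Psi D U c μ) =
      (((if b = c then 2 + (if ψ = μ then 1 else 0) + (if ψ * μ = 1 then 1 else 0) else 0) : ℤ) : ℂ) := by
  haveI : Fintype ↥U := Fintype.ofFinite _
  rw [inner_Psi b ψ (f := Psi D U c μ) (isClassFunction_indFun _ _)]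
  have hterm : ∀ (z : Multiplicative (ZMod 2)) (x : ↥U),
      ((zchar b z : ℂˣ) : ℂ) * (1 - (ψ x : ℂ)) * conj (Psi D U c μ (D.emb (z, (x : P2)))) =
        ((zchar b z : ℂˣ) : ℂ) * ((zchar c z : ℂˣ) : ℂ) *
          ((1 - (ψ x : ℂ)) * (2 - (μ x : ℂ) - (μ x : ℂ)⁻¹)) := by
    intro z x
    rcases eq_or_ne x 1 with rfl | hx
    · simp
    · rw [S.Psi_emb c μ z hx]
      have hnorm : conj ((μ x : ℂ)) = (μ x : ℂ)⁻¹ := by
        refine (Complex.inv_eq_conj ?_).symm
        refine Complex.norm_eq_one_of_pow_eq_one (n := Nat.card ↥U) ?_ Nat.card_pos.ne'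
        rw [← Units.val_pow_eq_pow_val, ← map_pow, pow_card_eq_one', map_one, Units.val_one]
      have hz : conj (((zchar c z : ℂˣ) : ℂ)) = ((zchar c z : ℂˣ) : ℂ) := by
        rcases z2_cases z with rfl | rfl
        · simp
        · rw [zchar_tu, map_intCast]
      rw [map_mul, hz, map_sub, map_sub, map_inv₀, hnorm, inv_inv, map_ofNat]
      ring
  simp only [hterm, ← Finset.mul_sum]
  rw [← Finset.sum_mul, sum_zchar]
  have hmul : ∀ x : ↥U, (1 - (ψ x : ℂ)) * (2 - (μ x : ℂ) - (μ x : ℂ)⁻¹) =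
      2 - ((μ x : ℂ) + ((μ⁻¹ : ↥U →* ℂˣ) x : ℂ)) - 2 * (ψ x : ℂ) +
        (((ψ * μ : ↥U →* ℂˣ) x : ℂ) + ((ψ * μ⁻¹ : ↥U →* ℂˣ) x : ℂ)) := fun x => by
    simp only [MonoidHom.mul_apply, MonoidHom.inv_apply, Units.val_mul, Units.val_inv_eq_inv_val]
    ring
  rw [Finset.sum_congr rfl fun x _ => hmul x, Finset.sum_add_distrib, Finset.sum_sub_distrib,
    Finset.sum_sub_distrib, Finset.sum_add_distrib, Finset.sum_add_distrib, Finset.sum_const,
    ← Finset.mul_sum, H15.Ward.sum_hom_eq_ite, H15.Ward.sum_hom_eq_ite, H15.Ward.sum_hom_eq_ite,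
    H15.Ward.sum_hom_eq_ite, H15.Ward.sum_hom_eq_ite, if_neg hψ, if_neg hμ,
    if_neg (show μ⁻¹ ≠ 1 from fun e =>
      hμ (MonoidHom.ext fun x => inv_eq_one.1 (DFunLike.congr_fun e x))), Finset.card_univ, ← Nat.card_eq_fintype_card,
    nsmul_eq_mul]
  have h0 := card_ne_zero_complex ↥U
  have hiff : (ψ * μ⁻¹ = 1) ↔ ψ = μ :=
    ⟨fun e => MonoidHom.ext fun x => mul_inv_eq_one.1 (DFunLike.congr_fun e x),
      fun e => MonoidHom.ext fun x => mul_inv_eq_one.2 (DFunLike.congr_fun e x)⟩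
  simp only [hiff]
  split_ifs <;> push_cast <;> field_simp <;> ring

/-- The inner products with the functions of the section of `t`. -/
theorem inner_Psi_F (b : Bool) {ψ : ↥U →* ℂˣ} (hψ : ψ ≠ 1)
    {θ : P2 → ℂ} (hθ : VanEven θ) {c : ℤ} (hc : ∀ x : ↥U, x ≠ 1 → θ (x : P2) = c) :
    classInner (Psi D U b ψ) (D.F θ) = (zsign b : ℂ) * c := by
  haveI : Fintype ↥U := Fintype.ofFinite _
  classical
  rw [inner_Psi b ψ (D.isClass_F θ), sum_z2]
  have h1 : ∑ x : ↥U, ((zchar b 1 : ℂˣ) : ℂ) * (1 - (ψ x : ℂ)) *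
      conj (D.F θ (D.emb (1, (x : P2)))) = 0 := Finset.sum_eq_zero fun x _ => by
    rw [D.F_eq_zero hθ fun g a ha e => ?_, map_zero, mul_zero]
    have h2 : orderOf (g⁻¹ * D.emb (1, (x : P2)) * g) = orderOf (x : P2) := by
      rw [show g⁻¹ * D.emb (1, (x : P2)) * g = (MulAut.conj g⁻¹).toMonoidHom (D.emb (1, (x : P2))) by
        simp, orderOf_injective (MulAut.conj g⁻¹).toMonoidHom (MulAut.conj g⁻¹).injective,
        orderOf_injective D.emb D.emb_injective, Prod.orderOf, orderOf_one, Nat.lcm_one_left]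
    rw [e, orderOf_injective D.emb D.emb_injective, Prod.orderOf] at h2
    have h3 : orderOf tu ∣ orderOf (x : P2) := h2 ▸ Nat.dvd_lcm_left _ _
    rw [orderOf_eq_prime (by rw [pow_two, tu_mul_self]) tu_ne_one] at h3
    exact Nat.not_odd_iff_even.2 (even_iff_two_dvd.2 h3) (S.odd_orderOf x)
  have h2 : ∀ x : ↥U, ((zchar b tu : ℂˣ) : ℂ) * (1 - (ψ x : ℂ)) *
      conj (D.F θ (D.emb (tu, (x : P2)))) = 2 * (zsign b : ℂ) * c * (1 - (ψ x : ℂ)) := fun x => by
    rw [zchar_tu, D.F_emb hθ (S.odd_orderOf x), map_mul, map_ofNat]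
    rcases eq_or_ne x 1 with rfl | hx
    · simp
    · rw [hc x hx, map_intCast]; ring
  rw [h1, zero_add, Finset.sum_congr rfl fun x _ => h2 x, ← Finset.mul_sum, Finset.sum_sub_distrib,
    H15.Ward.sum_hom_eq_ite, if_neg hψ, sub_zero, Finset.sum_const, Finset.card_univ,
    nsmul_eq_mul, mul_one, ← Nat.card_eq_fintype_card]
  have h0 := card_ne_zero_complex ↥U
  field_simp

/-- The inner product with the trivial character. -/
theorem inner_Psi_one (b : Bool) {ψ : ↥U →* ℂˣ} (hψ : ψ ≠ 1) :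
    classInner (Psi D U b ψ) (fun _ => (1 : ℂ)) = if b = true then 1 else 0 := by
  haveI : Fintype ↥U := Fintype.ofFinite _
  classical
  rw [inner_Psi b ψ (fun _ _ => rfl)]
  simp only [map_one, mul_one, ← Finset.mul_sum]
  rw [← Finset.sum_mul, sum_z2, map_one, zchar_tu, Finset.sum_sub_distrib,
    H15.Ward.sum_hom_eq_ite, if_neg hψ, sub_zero, Finset.sum_const, Finset.card_univ, nsmul_eq_mul,
    mul_one, ← Nat.card_eq_fintype_card, Units.val_one]
  have h0 := card_ne_zero_complex ↥U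
  cases b <;> simp [zsign] <;> field_simp <;> norm_num

/-- The exceptional functions vanish at `t`. -/
theorem Psi_t (b : Bool) (ψ : ↥U →* ℂˣ) : Psi D U b ψ D.t = 0 := by
  rw [Psi, indFun_apply, Finset.sum_eq_zero, mul_zero]
  intro g _
  by_cases hg : g⁻¹ * D.t * g ∈ A D U
  · obtain ⟨⟨z, x⟩, hc⟩ := hg
    rw [← hc, ← eA_coe, extendByZero_coe, phi_eA]
    suffices x = 1 by simp [this]
    have h1 : jU D U (z, x) * jU D U (z, x) = jU D U 1 := by
      rw [hc, map_one, show g⁻¹ * D.t * g * (g⁻¹ * D.t * g) = g⁻¹ * (D.t * D.t) * g by group,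
        D.t_sq]
      group
    rw [← map_mul] at h1
    have h2 : x * x = 1 := congrArg Prod.snd (jU_injective h1)
    exact Subtype.ext (H29.Walter.coprime_two_of_odd (S.odd_orderOf x) (congrArg Subtype.val h2))
  · exact extendByZero_of_not_mem _ hg

omit S in
theorem exists_coef (b : Bool) (ψ : ↥U →* ℂˣ) (χ : IrrCharacter G) :
    ∃ n : ℤ, classInner (Psi D U b ψ) (χ : G → ℂ) = n :=
  IsGen.exists_int_coeff (isGen_Psi b ψ) (IsIrr.isCharacter χ.2)

open scoped Classical in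
/-- The integral vectors. -/
theorem exists_vectors (θ : Fin 3 → P2 → ℂ) (hθ : ∀ i, VanEven (θ i))
    (hc : ∀ (i : Fin 3) (x : ↥U), x ≠ 1 → θ i (x : P2) = if i = 0 then 2 else 1) :
    ∃ v : Bool → (↥U →* ℂˣ) → IrrCharacter G → ℤ, ∀ b ψ, ψ ≠ 1 →
      (∑ χ, v b ψ χ * (charDegree (χ : G → ℂ) : ℤ) = 0) ∧
      (∑ χ, (v b ψ χ : ℂ) * (χ : G → ℂ) D.t = 0) ∧
      (∀ i, ∑ χ, D.coef (hθ i) χ * v b ψ χ = if i = 0 then 2 else 1) ∧
      v b ψ (H36.SelfCentral.triv G) = (if b = true then 1 else 0) ∧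
      (∑ χ, v b ψ χ * v b ψ χ = 3) ∧
      ∀ c μ, μ ≠ 1 → ∑ χ, v b ψ χ * v c μ χ =
        if b = c then 2 + (if ψ = μ then 1 else 0) + (if ψ * μ = 1 then 1 else 0) else 0 := by
  choose n hn using fun b ψ χ => exists_coef (D := D) (U := U) b ψ χ
  refine ⟨fun b ψ χ => zsign b * n b ψ χ, fun b ψ hψ => ?_⟩
  have hexp : ∀ b ψ, ψ ≠ 1 → ∀ g : G,
      ∑ χ, (n b ψ χ : ℂ) * (χ : G → ℂ) g = Psi D U b ψ g := by
    intro b ψ _ g
    have h0 := congrFun (classFunction_expansion (ψ := Psi D U b ψ) (isClassFunction_indFun _ _)) g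
    rw [Finset.sum_apply] at h0
    rw [h0]
    exact Finset.sum_congr rfl fun χ _ => by rw [Pi.smul_apply, smul_eq_mul, hn]
  have hgram : ∀ c μ, μ ≠ 1 → (∑ χ, (zsign b * n b ψ χ) * (zsign c * n c μ χ)) =
      if b = c then 2 + (if ψ = μ then 1 else 0) + (if ψ * μ = 1 then 1 else 0) else 0 := by
    intro c μ hμ
    have h1 := classInner_eq_sum (ψ := Psi D U c μ) (φ := Psi D U b ψ) (isClassFunction_indFun _ _)
    rw [S.inner_Psi_Psi hψ hμ] at h1
    simp only [hn, map_intCast] at h1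
    have h2 : (if b = c then 2 + (if ψ = μ then 1 else 0) + (if ψ * μ = 1 then 1 else 0) else 0 : ℤ) =
        ∑ χ, n b ψ χ * n c μ χ := by exact_mod_cast h1
    rw [show ∑ χ, (zsign b * n b ψ χ) * (zsign c * n c μ χ) =
      zsign b * zsign c * ∑ χ, n b ψ χ * n c μ χ by
      rw [Finset.mul_sum]; exact Finset.sum_congr rfl fun χ _ => by ring, ← h2]
    cases b <;> cases c <;> simp [zsign]
  refine ⟨?_, ?_, fun i => ?_, ?_, ?_, hgram⟩
  · have h := hexp b ψ hψ 1
    rw [Psi_one] at h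
    have h2 : ∑ χ : IrrCharacter G, n b ψ χ * (charDegree (χ : G → ℂ) : ℤ) = 0 := by
      have h3 : ((∑ χ : IrrCharacter G, n b ψ χ * (charDegree (χ : G → ℂ) : ℤ) : ℤ) : ℂ) = 0 := by
        push_cast
        rw [← h]
        exact Finset.sum_congr rfl fun χ _ => by rw [(H83.charDegree_eq χ.2).1]
      exact_mod_cast h3
    simp only [mul_assoc, ← Finset.mul_sum, h2, mul_zero]
  · have h := hexp b ψ hψ D.t
    rw [S.Psi_t] at h
    push_cast
    simp only [mul_assoc, ← Finset.mul_sum, h, mul_zero]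
  · have h1 := classInner_eq_sum (ψ := D.F (θ i)) (φ := Psi D U b ψ) (isClassFunction_indFun _ _)
    rw [S.inner_Psi_F b hψ (hθ i) (c := if i = 0 then 2 else 1) (fun x hx => by
      rw [hc i x hx]; split_ifs <;> simp)] at h1
    simp only [hn, TData.coef_spec D (hθ i), map_intCast] at h1
    have h2 : zsign b * (if i = 0 then 2 else 1) = ∑ χ, n b ψ χ * D.coef (hθ i) χ := by
      exact_mod_cast h1
    rw [show ∑ χ, D.coef (hθ i) χ * (zsign b * n b ψ χ) =
      zsign b * ∑ χ, n b ψ χ * D.coef (hθ i) χ by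
      rw [Finset.mul_sum]; exact Finset.sum_congr rfl fun χ _ => by ring, ← h2, ← mul_assoc,
      show zsign b * zsign b = 1 by cases b <;> rfl, one_mul]
  · have h1 := hn b ψ (H36.SelfCentral.triv G)
    rw [show ((H36.SelfCentral.triv G : IrrCharacter G) : G → ℂ) = fun _ => (1 : ℂ) from rfl,
      S.inner_Psi_one b hψ] at h1
    have h2 : n b ψ (H36.SelfCentral.triv G) = if b = true then 1 else 0 := by
      cases b <;> simp at h1 ⊢ <;> exact_mod_cast h1.symm
    show zsign b * n b ψ _ = _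
    rw [h2]
    cases b <;> simp [zsign]
  · rw [hgram b ψ hψ, if_pos rfl, if_pos rfl, if_neg]
    · rfl
    intro e
    refine hψ (MonoidHom.ext fun x => ?_)
    have hx : ψ x * ψ x = 1 := DFunLike.congr_fun e x
    obtain ⟨k, hk⟩ := S.odd
    have h1 : ψ x ^ Nat.card ↥U = 1 := by rw [← map_pow, pow_card_eq_one', map_one]
    rw [hk, pow_succ, pow_mul, pow_two, hx, one_pow, one_mul] at h1
    exact h1

end SplitCfg

end Cfsg.Agent.H72.PiHom
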