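import Cfsg.Agent.H64.Ward.Main

/-!
# The weighted sum of a column against the squares of the values at an involution, Ree parameters

With the eight rows of the main case, `Σ χ(t)² c(χ) / χ(1) ≠ 0` for every `c` orthogonal to the
principal columns that is `1` on the principal character and vanishes on the rows whose degree
carries the full `p`-part of `q² - q + 1`.
-/

set_option autoImplicit false
set_option linter.unusedSectionVars false

namespace Cfsg.Agent.H72.PiHom.Table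

open Finset Cfsg.Agent.H64.Ward

variable {ι : Type*} [Fintype ι] [DecidableEq ι] {J W : Type*} [Fintype J] [Fintype W]

/-- The degrees of the main case with Ree parameters. -/
structure ReeData (D : Cols ι J W) (E : Eight D) (q : ℤ) : Prop where
  Q_eq : D.Q = q
  big : 27 ≤ q
  bal : E.Balanced
  dA : D.deg E.A = -(q ^ 2 - q + 1)
  dS : D.deg E.S = q * (-(q ^ 2 - q + 1))
  dT : D.deg E.T = q ^ 3
  B_sum : D.deg E.B + D.deg E.B' = 1 + D.deg E.A
  B_diff : 3 * (D.deg E.B - D.deg E.B') ^ 2 = q * ((q - 1) * (q + 1)) ^ 2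
  k_eq : D.k * ((q : ℚ) * (((q : ℚ) - 1) * ((q : ℚ) ^ 2 - q + 1))) =
    ((q : ℚ) - 1) ^ 2 * ((q : ℚ) + 1)
  cover : ∀ j, ∃ O : Orbit D, ∃ i, O.idx i = j

namespace ReeData

variable {D : Cols ι J W} {E : Eight D} {q : ℤ} (N : Normal D) (R : ReeData D E q)
include R

theorem two_h : 2 * D.h = q - 1 := by have := D.hQ; have := R.Q_eq; omega

/-- The degree of the exceptional part of an orbit. -/
theorem pair_X (P : PairData D) : P.X = (q - 1) * (q ^ 2 - q + 1) := by
  have hk := P.k_eq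
  have h2 : (2 * (D.h : ℚ)) = (q : ℚ) - 1 := by exact_mod_cast R.two_h
  rw [R.Q_eq, h2, ← R.k_eq] at hk
  have hk0 : D.k ≠ 0 := by
    intro e
    have h := R.k_eq
    rw [e, zero_mul] at h
    have := R.big
    exact (mul_ne_zero (pow_ne_zero 2 (sub_ne_zero.2 (by exact_mod_cast (by omega : q ≠ 1))))
      (by exact_mod_cast (by omega : q + 1 ≠ 0))) h.symm
  have hq0 : (q : ℚ) ≠ 0 := by have := R.big; exact_mod_cast (by omega : q ≠ 0)
  have h3 := mul_left_cancel₀ hq0 (mul_left_cancel₀ hk0 hk)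
  exact_mod_cast h3

/-- The rows of the discrete columns have degrees divisible by `(q - 1)(q² - q + 1)`. -/
theorem p_dvd {j : J} {x : ι} (hx : D.p j x ≠ 0) : (q - 1) * (q ^ 2 - q + 1) ∣ D.deg x := by
  obtain ⟨O, i, rfl⟩ := R.cover j
  obtain ⟨-, P, hPR, hsupp⟩ := O.shape_supp
  set X := (q - 1) * (q ^ 2 - q + 1) with hX
  have hPX : P.X = X := R.pair_X P
  -- the third row of every `H`
  have hthird : ∀ l, ∃ e, e ≠ P.P ∧ e ≠ P.R ∧ (O.H l e = 1 ∨ O.H l e = -1) ∧
      ∀ c, c ≠ P.P → c ≠ P.R → c ≠ e → O.H l c = 0 := by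
    intro l
    obtain ⟨e, he, hval, hz⟩ := exists_extra (v := O.H l) (s := {P.P, P.R}) (by
      rw [O.H_sq, sum_pair P.ne, (hPR l).1, (hPR l).2, P.sqP, P.sqR]; rfl)
    simp only [mem_insert, mem_singleton, not_or] at he hz
    exact ⟨e, he.1, he.2, hval, fun c h1 h2 h3 => hz c ⟨h1, h2⟩ h3⟩
  choose e heP heR he1 he0 using hthird
  have hdot : ∀ l (v : ι → ℤ), dot (O.H l) v = P.σP * v P.P + P.σR * v P.R + O.H l (e l) * v (e l) := by
    intro l v
    rw [dot_eq_sum (s := {P.P, P.R, e l}) fun c hc => by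
      simp only [mem_insert, mem_singleton, not_or] at hc
      exact he0 l c hc.1 hc.2.1 hc.2.2]
    rw [sum_insert (by simp [P.ne, (heP l).symm]), sum_pair (heR l).symm, (hPR l).1, (hPR l).2]
    ring
  have hdege : ∀ l, X ∣ D.deg (e l) := by
    intro l
    have h := hdot l D.deg
    rw [O.H_deg] at h
    have h2 := P.deg_rel
    rcases he1 l with e1 | e1 <;> rw [e1] at h
    · exact ⟨1, by rw [← hPX]; linarith⟩
    · exact ⟨-1, by rw [← hPX]; linarith⟩
  have einj : Function.Injective e := by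
    intro a b hab
    by_contra hne
    have h := hdot a (O.H b)
    rw [O.H_dot a b hne, (hPR b).1, (hPR b).2, P.sqP, P.sqR] at h
    have h1 : O.H b (e a) = 1 ∨ O.H b (e a) = -1 := hab ▸ he1 b
    rcases he1 a with e1 | e1 <;> rcases h1 with e2 | e2 <;> rw [e1, e2] at h <;> norm_num at h
  set u := D.p (O.idx i) with hu
  have hue : ∀ l, u (e l) * u (e l) = 1 := by
    intro l
    have h := hdot l u
    have hr := P.p_rel (O.idx i)
    rw [O.H_idx] at h
    have : O.H l (e l) * u (e l) = 1 ∨ O.H l (e l) * u (e l) = -1 := by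
      split_ifs at h
      · exact Or.inl (by simp only [hu]; linarith)
      · exact Or.inr (by simp only [hu]; linarith)
    rcases he1 l with e1 | e1 <;> rw [e1] at this <;> rcases this with e2 | e2 <;>
      simp at e2 <;> first | (rw [e2]; rfl) | (rw [show u (e l) = -1 by linarith]; rfl) |
        (rw [show u (e l) = 1 by linarith]; rfl)
  have hsum3 : ∀ g : ι → ℤ, ∑ c ∈ univ.image e, g c = g (e 0) + g (e 1) + g (e 2) := fun g => by
    rw [sum_image einj.injOn, Fin.sum_univ_three]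
  obtain ⟨G, hGs, hG1, hG0⟩ := exists_extra (v := u) (s := univ.image e) (by
    rw [hsum3, hue, hue, hue, D.p_sq]; rfl)
  have hGe : ∀ l, G ≠ e l := fun l h => hGs (h ▸ mem_image_of_mem e (mem_univ l))
  have hdegG : X ∣ D.deg G := by
    have h := D.p_deg (O.idx i)
    rw [dot_eq_sum (s := insert G (univ.image e)) fun c hc => by
      simp only [mem_insert, not_or] at hc
      exact hG0 c hc.2 hc.1, sum_insert hGs, hsum3] at h
    have h2 : u G * D.deg G =
        -(u (e 0) * D.deg (e 0) + u (e 1) * D.deg (e 1) + u (e 2) * D.deg (e 2)) := by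
      simp only [hu]; linarith
    have h3 : X ∣ u G * D.deg G := by
      rw [h2]
      exact (dvd_add (dvd_add ((hdege 0).mul_left _) ((hdege 1).mul_left _))
        ((hdege 2).mul_left _)).neg_right
    rcases hG1 with e1 | e1 <;> rw [e1] at h3
    · simpa using h3
    · simpa using h3
  by_cases hxe : x ∈ univ.image e
  · obtain ⟨l, -, rfl⟩ := mem_image.1 hxe
    exact hdege l
  · by_cases hxG : x = G
    · exact hxG ▸ hdegG
    · exact absurd (hG0 x hxe hxG) hx

/-- Values at `t` of the eight rows. -/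
theorem tvals (N : Normal D) : D.tval D.one = 1 ∧ D.tval E.A = 1 ∧ D.tval E.B = D.h ∧
    D.tval E.B' = D.h ∧ D.tval E.C = D.h ∧ D.tval E.C' = D.h ∧ D.tval E.S = q ∧ D.tval E.T = q := by
  obtain ⟨tA, tB, tB', tC, tC', tS, tT⟩ := E.values N R.bal
  refine ⟨?_, tA, tB, tB', tC, tC', tS.trans R.Q_eq, tT.trans R.Q_eq⟩
  rw [N.tval_row ((N.one_mem 0).2 rfl), D.a_one, D.a_one, D.a_one,
    sum_eq_zero fun w _ => D.z_one w]
  simp

/-- The shape of an exceptional vector: two principal rows and one further row. -/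
theorem exc_row (N : Normal D) {v : ι → ℤ} (hv : dot v v = 3) (hd : dot v D.deg = 0)
    (ht : dot v D.tval = 0) (ha : ∀ i, dot (D.a i) v = if i = 0 then 2 else 1)
    (hdvd : ∀ x, D.deg x ∣ q ^ 3 * (q ^ 3 + 1) * (q - 1)) :
    ∃ x, (∀ i, D.a i x = 0) ∧ v x * v x = 1 ∧
      (D.deg x = q ^ 3 + 1 ∨ D.deg x = -(q ^ 3 + 1)) ∧ D.tval x * D.tval x = (q + 1) ^ 2 ∧
      ∀ z, z ≠ x → v z =
        if v D.one = 1 then (if z = D.one ∨ z = E.T then 1 else 0)
        else (if z = E.A ∨ z = E.S then 1 else 0) := by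
  have hb := abs_le_one (v := v) hv.le
  have hn := E.nodA
  simp only [List.nodup_cons, List.mem_cons, not_or, List.not_mem_nil, not_false_iff, and_true,
    List.nodup_nil] at hn
  obtain ⟨⟨n1A, n1S, n1T⟩, ⟨nAS, nAT⟩, nST⟩ := hn
  obtain ⟨d0, d1, d2⟩ := E.dots N v
  rw [ha] at d0 d1 d2
  simp at d0 d1 d2
  have hsum4 : ∀ f : ι → ℤ, ∑ c ∈ ({D.one, E.A, E.S, E.T} : Finset ι), f c =
      f D.one + f E.A + f E.S + f E.T := fun f => by
    simp [n1A, n1S, n1T, nAS, nAT, nST, add_assoc]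
  have hle := sum_sq_le v {D.one, E.A, E.S, E.T}
  rw [hsum4, hv] at hle
  have h01 : (v D.one = 0 ∨ v D.one = 1) ∧ (v E.A = 0 ∨ v E.A = 1) ∧ (v E.S = 0 ∨ v E.S = 1) ∧
      (v E.T = 0 ∨ v E.T = 1) := by
    rcases hb D.one with e | e | e <;> rcases hb E.A with e' | e' | e' <;>
      rcases hb E.S with e'' | e'' | e'' <;> rcases hb E.T with e''' | e''' | e''' <;>
      rw [e, e', e'', e'''] at hle d0 <;> simp [e, e', e'', e'''] <;> omega
  obtain ⟨h1, hA, hS, hT⟩ := h01
  have hsq : ∀ {a : ℤ}, (a = 0 ∨ a = 1) → a * a = a := by rintro a (rfl | rfl) <;> rfl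
  obtain ⟨x, hxs, hx1, hx0⟩ := exists_extra (v := v) (s := {D.one, E.A, E.S, E.T}) (by
    rw [hsum4, hv, hsq h1, hsq hA, hsq hS, hsq hT]; omega)
  have hdot : ∀ f : ι → ℤ, dot v f =
      v x * f x + (v D.one * f D.one + v E.A * f E.A + v E.S * f E.S + v E.T * f E.T) := fun f => by
    rw [dot_eq_sum (s := insert x {D.one, E.A, E.S, E.T}) fun c hc => by
      rw [mem_insert, not_or] at hc
      exact hx0 c hc.2 hc.1, sum_insert hxs, hsum4]
  obtain ⟨⟨a1A, a2A, a0A⟩, -, -, -, -, aS, aT⟩ := E.vals N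
  have hxa0 : D.a 0 x = 0 := by
    have : x ∉ supp (D.a 0) := by rwa [E.suppA]
    simpa [mem_supp] using this
  have hai : ∀ i, i ≠ 0 → v x * D.a i x + (v E.S + v E.T) = 1 := fun i hi => by
    have h := ha i
    rw [dot_comm, hdot, aS, aT, D.a_one, if_neg hi,
      show D.a i E.A = 0 by fin_cases i <;> first | exact absurd rfl hi | assumption] at h
    rw [if_neg hi] at h
    linarith
  have hST : v E.S + v E.T = 1 := by
    by_contra hc
    have h11 := hai 1 (by decide)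
    have h22 := hai 2 (by decide)
    have hx1' : D.a 1 x ≠ 0 := fun e => hc (by rw [e] at h11; omega)
    have hx2' : D.a 2 x ≠ 0 := fun e => hc (by rw [e] at h22; omega)
    have m1 : x ∈ supp (D.a 1) := mem_supp.2 hx1'
    have m2 : x ∈ supp (D.a 2) := mem_supp.2 hx2'
    have m1' := m1
    rw [E.suppB] at m1'
    simp only [mem_insert, mem_singleton] at m1' hxs
    rcases m1' with e | e | e | e
    · exact E.outB.1.2 (e ▸ m2)
    · exact E.outB.2.2 (e ▸ m2)
    · exact hxs (Or.inr (Or.inr (Or.inl e)))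
    · exact hxs (Or.inr (Or.inr (Or.inr e)))
  have hxv : v x ≠ 0 := by rcases hx1 with e | e <;> rw [e] <;> norm_num
  have hxa : ∀ i, D.a i x = 0 := by
    intro i
    by_cases hi : i = 0
    · exact hi ▸ hxa0
    · have h := hai i hi
      rw [hST] at h
      exact (mul_eq_zero.1 (by linarith : v x * D.a i x = 0)).resolve_left hxv
  have hxx : v x * v x = 1 := by rcases hx1 with e | e <;> rw [e] <;> rfl
  obtain ⟨t1, tA, -, -, -, -, tS, tT⟩ := R.tvals N
  have hdg := hdot D.deg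
  have htt := hdot D.tval
  rw [hd, D.deg_one, R.dA, R.dS, R.dT] at hdg
  rw [ht, t1, tA, tS, tT] at htt
  -- the two possible pairs
  have hpair : (v D.one = 1 ∧ v E.A = 0 ∧ v E.S = 0 ∧ v E.T = 1) ∨
      (v D.one = 0 ∧ v E.A = 1 ∧ v E.S = 1 ∧ v E.T = 0) := by
    rcases h1 with e | e <;> rcases hS with e' | e'
    · exfalso
      have eT : v E.T = 1 := by omega
      have eA : v E.A = 1 := by omega
      rw [e, e', eT, eA] at hdg
      have hg := hdvd x
      have h' : (q ^ 2 + 1) * (q - 1) ∣ D.deg x := ⟨-(v x), by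
        linear_combination -(v x) * hdg - (D.deg x) * hxx⟩
      have h2 : (q ^ 2 + 1) ∣ q ^ 3 * (q ^ 3 + 1) * (q - 1) :=
        ((dvd_mul_right _ _).trans h').trans hg
      have h3 : (q ^ 2 + 1) ∣ 2 := by
        have := dvd_sub h2 (dvd_mul_right (q ^ 2 + 1) (q ^ 5 - q ^ 4 - q ^ 3 + 2 * q ^ 2 - 2))
        rwa [show q ^ 3 * (q ^ 3 + 1) * (q - 1) -
          (q ^ 2 + 1) * (q ^ 5 - q ^ 4 - q ^ 3 + 2 * q ^ 2 - 2) = 2 by ring] at this
      have := Int.le_of_dvd (by norm_num) h3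
      nlinarith [R.big]
    · exact Or.inr ⟨e, by omega, e', by omega⟩
    · exact Or.inl ⟨e, by omega, e', by omega⟩
    · exfalso
      have eT : v E.T = 0 := by omega
      have eA : v E.A = 0 := by omega
      rw [e, e', eT, eA] at hdg
      have hg := hdvd x
      have h' : (q ^ 2 + 1) * (q - 1) ∣ D.deg x := ⟨v x, by
        linear_combination -(v x) * hdg - (D.deg x) * hxx⟩
      have h2 : (q ^ 2 + 1) ∣ q ^ 3 * (q ^ 3 + 1) * (q - 1) :=
        ((dvd_mul_right _ _).trans h').trans hg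
      have h3 : (q ^ 2 + 1) ∣ 2 := by
        have := dvd_sub h2 (dvd_mul_right (q ^ 2 + 1) (q ^ 5 - q ^ 4 - q ^ 3 + 2 * q ^ 2 - 2))
        rwa [show q ^ 3 * (q ^ 3 + 1) * (q - 1) -
          (q ^ 2 + 1) * (q ^ 5 - q ^ 4 - q ^ 3 + 2 * q ^ 2 - 2) = 2 by ring] at this
      have := Int.le_of_dvd (by norm_num) h3
      nlinarith [R.big]
  simp only [mem_insert, mem_singleton, not_or] at hxs
  have hdt : (D.deg x = q ^ 3 + 1 ∨ D.deg x = -(q ^ 3 + 1)) ∧
      D.tval x * D.tval x = (q + 1) ^ 2 := by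
    rcases hpair with ⟨p1, pA, pS, pT⟩ | ⟨p1, pA, pS, pT⟩ <;> rw [p1, pA, pS, pT] at hdg htt
    · refine ⟨?_, ?_⟩
      · rcases hx1 with e | e <;> rw [e] at hdg
        · exact Or.inr (by linarith)
        · exact Or.inl (by linarith)
      · rcases hx1 with e | e <;> rw [e] at htt
        · rw [show D.tval x = -(q + 1) by linarith]; ring
        · rw [show D.tval x = q + 1 by linarith]; ring
    · refine ⟨?_, ?_⟩
      · rcases hx1 with e | e <;> rw [e] at hdg
        · exact Or.inl (by linear_combination -hdg)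
        · exact Or.inr (by linear_combination hdg)
      · rcases hx1 with e | e <;> rw [e] at htt
        · rw [show D.tval x = -(q + 1) by linarith]; ring
        · rw [show D.tval x = q + 1 by linarith]; ring
  refine ⟨x, hxa, hxx, hdt.1, hdt.2, fun z hz => ?_⟩
  by_cases hz4 : z ∈ ({D.one, E.A, E.S, E.T} : Finset ι)
  · simp only [mem_insert, mem_singleton] at hz4
    rcases hpair with ⟨p1, pA, pS, pT⟩ | ⟨p1, pA, pS, pT⟩
    · rw [if_pos p1]
      rcases hz4 with rfl | rfl | rfl | rfl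
      · rw [if_pos (Or.inl rfl)]; exact p1
      · rw [if_neg (by tauto)]; exact pA
      · rw [if_neg (by tauto)]; exact pS
      · rw [if_pos (Or.inr rfl)]; exact pT
    · rw [if_neg (by omega)]
      rcases hz4 with rfl | rfl | rfl | rfl
      · rw [if_neg (by tauto)]; exact p1
      · rw [if_pos (Or.inl rfl)]; exact pA
      · rw [if_pos (Or.inr rfl)]; exact pS
      · rw [if_neg (by tauto)]; exact pT
  · rw [hx0 z hz4 hz]
    simp only [mem_insert, mem_singleton, not_or] at hz4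
    split_ifs <;> tauto

/-- Two exceptional vectors with the inner products of the exceptional functions have different
rows. -/
theorem exc_inj (N : Normal D) {v v' : ι → ℤ} {x x' : ι}
    (hx : ∀ i, D.a i x = 0) (hvx : v x * v x = 1) (hvx' : v' x' * v' x' = 1)
    (h1 : v D.one = 1 ∨ v D.one = 0) (h1' : v' D.one = 1 ∨ v' D.one = 0)
    (hv : ∀ z, z ≠ x → v z =
        if v D.one = 1 then (if z = D.one ∨ z = E.T then 1 else 0)
        else (if z = E.A ∨ z = E.S then 1 else 0))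
    (hv' : ∀ z, z ≠ x' → v' z =
        if v' D.one = 1 then (if z = D.one ∨ z = E.T then 1 else 0)
        else (if z = E.A ∨ z = E.S then 1 else 0))
    (hdot : dot v v' = if v D.one = v' D.one then 2 else 0) : x ≠ x' := by
  rintro rfl
  have hn := E.nodA
  simp only [List.nodup_cons, List.mem_cons, not_or, List.not_mem_nil, not_false_iff, and_true,
    List.nodup_nil] at hn
  obtain ⟨⟨n1A, n1S, n1T⟩, ⟨nAS, nAT⟩, nST⟩ := hn
  have hx4 : x ∉ ({D.one, E.A, E.S, E.T} : Finset ι) := fun h => by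
    rw [← E.suppA, mem_supp] at h
    exact h (hx 0)
  rw [dot_eq_sum (s := insert x {D.one, E.A, E.S, E.T}) fun c hc => by
    simp only [mem_insert, mem_singleton, not_or] at hc
    rw [hv c hc.1]
    split_ifs <;> tauto, sum_insert hx4] at hdot
  simp only [mem_insert, mem_singleton, not_or] at hx4
  obtain ⟨x1, xA, xS, xT⟩ := hx4
  rw [sum_insert (by simp [n1A, n1S, n1T]), sum_insert (by simp [nAS, nAT]), sum_pair nST,
    hv _ (Ne.symm x1), hv _ (Ne.symm xA), hv _ (Ne.symm xS), hv _ (Ne.symm xT), hv' _ (Ne.symm x1), hv' _ (Ne.symm xA), hv' _ (Ne.symm xS), hv' _ (Ne.symm xT)] at hdot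
  have hvv : v x * v' x ≠ 0 := mul_ne_zero (fun e => by simp [e] at hvx) (fun e => by simp [e] at hvx')
  rcases h1 with e | e <;> rcases h1' with e' | e' <;> rw [e, e'] at hdot <;>
    simp [n1A, n1S, n1T, nAS, nAT, nST, Ne.symm n1A, Ne.symm n1S, Ne.symm n1T, Ne.symm nAS, Ne.symm nAT,
      Ne.symm nST] at hdot <;>
    exact hvv (mul_eq_zero.2 hdot)

/-- Outside the principal rows, the discrete rows and enough exceptional rows, the value at `t`
is zero. -/
theorem tval_zero (N : Normal D) {Rx : Finset ι}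
    (hR : ∀ x ∈ Rx, (∀ i, D.a i x = 0) ∧ (D.deg x = q ^ 3 + 1 ∨ D.deg x = -(q ^ 3 + 1)) ∧
      D.tval x * D.tval x = (q + 1) ^ 2)
    (hcard : q - 3 ≤ 2 * (Rx.card : ℤ)) (hJ : q - 3 ≤ 8 * (Fintype.card J : ℤ))
    (htt : dot D.tval D.tval = q * (q ^ 2 - 1)) {x : ι} (hx : x ∉ Rx) (hxa : ∀ i, D.a i x = 0)
    (hxp : ∀ j, D.p j x = 0) : D.tval x = 0 := by
  set Zv : ι → ℤ := fun y => ∑ w, D.z w y with hZv
  set Pv : ι → ℤ := fun y => ∑ j, D.p j y with hPv
  set Av : ι → ℤ := fun y => D.a 0 y + D.h * (D.a 1 y + D.a 2 y) with hAv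
  have h2 := R.two_h
  have hPP : dot Pv Pv = 4 * Fintype.card J := by
    have e : dot Pv Pv = ∑ j, ∑ j', dot (D.p j) (D.p j') := by
      simp only [dot, hPv, sum_mul_sum]
      rw [sum_comm]
      exact sum_congr rfl fun j _ => sum_comm
    rw [e, sum_congr rfl fun j _ => (sum_eq_single j (fun j' _ hj => D.p_dot j j' hj.symm)
      (fun h => absurd (mem_univ j) h)).trans (D.p_sq j)]
    simp [mul_comm]
  have hAA : dot Av Av = 4 + 12 * D.h ^ 2 + 8 * D.h := by
    have e : dot Av Av = dot (D.a 0) (D.a 0) + D.h ^ 2 * (dot (D.a 1) (D.a 1) + dot (D.a 2) (D.a 2) +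
        2 * dot (D.a 1) (D.a 2)) + 2 * D.h * (dot (D.a 0) (D.a 1) + dot (D.a 0) (D.a 2)) := by
      simp only [dot, hAv, mul_sum, ← sum_add_distrib]
      exact sum_congr rfl fun y _ => by ring
    rw [e, D.a_sq, D.a_sq, D.a_sq, D.a_dot 0 1 (by decide), D.a_dot 0 2 (by decide),
      D.a_dot 1 2 (by decide)]
    ring
  have hAP : dot Av Pv = 0 := by
    simp only [dot, hAv, hPv, mul_sum]
    rw [sum_comm]
    refine sum_eq_zero fun j _ => ?_
    have e : ∑ y, (D.a 0 y + D.h * (D.a 1 y + D.a 2 y)) * D.p j y = dot (D.a 0) (D.p j) +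
        D.h * dot (D.a 1) (D.p j) + D.h * dot (D.a 2) (D.p j) := by
      simp only [dot, mul_sum, ← sum_add_distrib]
      exact sum_congr rfl fun y _ => by ring
    rw [e, D.a_p, D.a_p, D.a_p]; ring
  have hAZ : dot Av Zv = 0 := by
    simp only [dot, hAv, hZv, mul_sum]
    rw [sum_comm]
    refine sum_eq_zero fun w _ => ?_
    have e : ∑ y, (D.a 0 y + D.h * (D.a 1 y + D.a 2 y)) * D.z w y = dot (D.a 0) (D.z w) +
        D.h * dot (D.a 1) (D.z w) + D.h * dot (D.a 2) (D.z w) := by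
      simp only [dot, mul_sum, ← sum_add_distrib]
      exact sum_congr rfl fun y _ => by ring
    rw [e, D.a_z, D.a_z, D.a_z]; ring
  have hPZ : dot Pv Zv = 0 := by
    simp only [dot, hPv, hZv, sum_mul_sum]
    rw [sum_comm]
    refine sum_eq_zero fun j _ => ?_
    rw [sum_comm]
    exact sum_eq_zero fun w _ => D.p_z j w
  have htot : dot D.tval D.tval =
      dot Av Av + (2 * D.h) ^ 2 * dot Pv Pv + (2 * D.h + 2) ^ 2 * dot Zv Zv +
        2 * (2 * D.h) * dot Av Pv + 2 * (2 * D.h + 2) * dot Av Zv +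
        2 * (2 * D.h) * (2 * D.h + 2) * dot Pv Zv := by
    simp only [dot, mul_sum, ← sum_add_distrib]
    refine sum_congr rfl fun y _ => ?_
    rw [D.tval_eq y]
    simp only [hAv, hPv, hZv]
    ring
  rw [htt, hAP, hAZ, hPZ, hAA, hPP, show 2 * D.h + 2 = q + 1 by omega, h2] at htot
  have hq := R.big
  have hZle : 2 * dot Zv Zv ≤ q - 3 := by
    have h12 : 4 * (12 * D.h ^ 2) = 12 * (q - 1) ^ 2 := by rw [← h2]; ring
    have h8 : 8 * D.h = 4 * (q - 1) := by linarith
    have hJ2 : (q - 1) ^ 2 * (q - 3) ≤ (q - 1) ^ 2 * (8 * (Fintype.card J : ℤ)) :=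
      mul_le_mul_of_nonneg_left hJ (sq_nonneg _)
    have hpos : (0 : ℤ) < (q + 1) ^ 2 := by positivity
    refine le_of_mul_le_mul_left ?_ hpos
    nlinarith
  have hRz : ∀ y ∈ Rx, Zv y * Zv y = 1 := by
    intro y hy
    obtain ⟨ya, yd, yt⟩ := hR y hy
    have hp0 : ∀ j, D.p j y = 0 := by
      intro j
      by_contra hc
      have h := (dvd_mul_right (q - 1) _).trans (R.p_dvd hc)
      have h3 : q - 1 ∣ q ^ 3 + 1 := by
        rcases yd with e | e <;> rw [e] at h
        · exact h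
        · exact dvd_neg.1 h
      have h4 : q - 1 ∣ 2 := by
        have := dvd_sub h3 (dvd_mul_right (q - 1) (q ^ 2 + q + 1))
        rwa [show q ^ 3 + 1 - (q - 1) * (q ^ 2 + q + 1) = 2 by ring] at this
      have := Int.le_of_dvd (by norm_num) h4
      omega
    have he : D.tval y = (q + 1) * Zv y := by
      rw [D.tval_eq, ya, ya, ya, sum_eq_zero fun j _ => hp0 j,
        show 2 * D.h + 2 = q + 1 by omega]
      ring
    rw [he] at yt
    have hne : (q + 1) ^ 2 ≠ 0 := pow_ne_zero 2 (by omega)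
    exact mul_left_cancel₀ hne (by linear_combination yt)
  have hall : dot Zv Zv ≤ ∑ y ∈ Rx, Zv y * Zv y := by
    rw [sum_congr rfl hRz]
    simp
    omega
  have hZx : Zv x = 0 := eq_zero_of_le hall x hx
  rw [D.tval_eq, hxa, hxa, hxa, sum_eq_zero fun j _ => hxp j, show ∑ w, D.z w x = 0 from hZx]
  ring

/-- Bound on a degree of a pair. -/
theorem pair_bound {b b' : ℤ} (hs : b + b' = -(q ^ 2 - q))
    (hd : 3 * (b - b') ^ 2 = q * ((q - 1) * (q + 1)) ^ 2) : (q - 1) ^ 2 ≤ |b| := by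
  have hq := R.big
  have hpos : 0 ≤ (q - 1) * (q + 1) := by nlinarith
  have h9 : (3 * ((q - 1) * (q + 1))) ^ 2 ≤ (b - b') ^ 2 := by
    have := mul_le_mul_of_nonneg_right hq (sq_nonneg ((q - 1) * (q + 1)))
    nlinarith
  have habs : 3 * ((q - 1) * (q + 1)) ≤ |b - b'| := by
    rw [← abs_of_nonneg (by linarith : (0 : ℤ) ≤ 3 * ((q - 1) * (q + 1)))]
    exact sq_le_sq.1 h9
  have h2 : |b - b'| ≤ 2 * |b| + |b + b'| := by
    have := abs_sub (2 * b) (b + b')
    rwa [show 2 * b - (b + b') = b - b' by ring, abs_mul, abs_two] at this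
  rw [hs, abs_neg, abs_of_nonneg (by nlinarith : (0 : ℤ) ≤ q ^ 2 - q)] at h2
  nlinarith

/-- One of a pair of rows is killed by the `p`-part, the other carries one. -/
theorem pair_weight {p : ℕ} (hp : p.Prime) (hp3' : p ≠ 3) {e : ℕ}
    (hpe : (p : ℤ) ^ e ∣ q ^ 2 - q + 1) (he : 0 < e)
    {c : ι → ℂ} (hvan : ∀ x, (p : ℤ) ^ e ∣ D.deg x → c x = 0) {b b' : ι}
    (hs : D.deg b + D.deg b' = -(q ^ 2 - q))
    (hd : 3 * (D.deg b - D.deg b') ^ 2 = q * ((q - 1) * (q + 1)) ^ 2) (hc : c b + c b' = 1) :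
    ∃ w : ℚ, c b / (D.deg b : ℂ) + c b' / (D.deg b' : ℂ) = (w : ℂ) ∧
      |((q : ℚ) - 1) ^ 2 * w| ≤ 1 := by
  have hprod : 12 * (D.deg b * D.deg b') = -(q * (q - 1) ^ 2 * (q ^ 2 - q + 1)) := by
    linear_combination 3 * (D.deg b + D.deg b' - (q ^ 2 - q)) * hs - hd
  have hpZ : Prime (p : ℤ) := Nat.prime_iff_prime_int.1 hp
  have hp1 : (p : ℤ) ∣ q ^ 2 - q + 1 := (dvd_pow_self _ he.ne').trans hpe
  have hcop : ¬ (p : ℤ) ∣ q ^ 2 - q := fun h => by
    have h1 := dvd_sub hp1 h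
    rw [show q ^ 2 - q + 1 - (q ^ 2 - q) = 1 by ring] at h1
    exact hpZ.not_dvd_one h1
  have hp12 : ¬ (p : ℤ) ∣ 12 := fun h => by
    have h' : p ∣ 2 * 2 * 3 := by exact_mod_cast h
    rcases hp.dvd_mul.1 h' with h' | h'
    · have hp2 : p = 2 := by
        rcases hp.dvd_mul.1 h' with h' | h' <;> exact (Nat.prime_dvd_prime_iff_eq hp Nat.prime_two).1 h'
      subst hp2
      refine hcop (even_iff_two_dvd.1 ?_)
      rw [show q ^ 2 - q = (q - 1) * q by ring]
      rcases Int.even_or_odd q with h | ⟨k, hk⟩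
      · exact h.mul_left _
      · exact Even.mul_right ⟨k, by omega⟩ _
    · exact hp3' ((Nat.prime_dvd_prime_iff_eq hp Nat.prime_three).1 h')
  have hp3 : (p : ℤ) ^ e ∣ D.deg b * D.deg b' :=
    hpZ.pow_dvd_of_dvd_mul_left _ hp12 (by rw [hprod]; exact (hpe.mul_left _).neg_right)
  have hq := R.big
  have fin : ∀ {u u' : ι}, D.deg u + D.deg u' = -(q ^ 2 - q) →
      3 * (D.deg u - D.deg u') ^ 2 = q * ((q - 1) * (q + 1)) ^ 2 → c u + c u' = 1 →
      (p : ℤ) ^ e ∣ D.deg u → ∃ w : ℚ, c u / (D.deg u : ℂ) + c u' / (D.deg u' : ℂ) = (w : ℂ) ∧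
        |((q : ℚ) - 1) ^ 2 * w| ≤ 1 := by
    intro u u' us ud uc hu
    rw [hvan u hu, zero_add] at uc
    refine ⟨1 / (D.deg u' : ℚ), ?_, ?_⟩
    · rw [hvan u hu, uc]; push_cast; ring
    · have hb := R.pair_bound (b := D.deg u') (b' := D.deg u) (by linarith)
        (by linear_combination ud)
      have hne : (D.deg u' : ℚ) ≠ 0 := by exact_mod_cast D.deg_ne u'
      rw [abs_mul, abs_of_nonneg (sq_nonneg _), abs_div, abs_one, ← mul_div_assoc, mul_one,
        div_le_one (abs_pos.2 hne)]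
      exact_mod_cast hb
  rcases hpZ.dvd_or_dvd (dvd_trans (dvd_pow_self (p : ℤ) he.ne') hp3) with hb | hb
  · have hnb' : ¬ (p : ℤ) ∣ D.deg b' := fun hb' => hcop (by
      have := dvd_add hb hb'
      rw [hs] at this
      exact dvd_neg.1 this)
    exact fin hs hd hc (hpZ.pow_dvd_of_dvd_mul_right _ hnb' hp3)
  · have hnb : ¬ (p : ℤ) ∣ D.deg b := fun hb' => hcop (by
      have := dvd_add hb' hb
      rw [hs] at this
      exact dvd_neg.1 this)
    obtain ⟨w, h1, h2⟩ := fin (u := b') (u' := b) (by linarith) (by linear_combination hd)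
      (by rw [add_comm]; exact hc) (hpZ.pow_dvd_of_dvd_mul_left _ hnb hp3)
    exact ⟨w, by rw [add_comm]; exact h1, h2⟩

/-- The weighted sum is not zero. -/
theorem sum_ne (N : Normal D) {Rx : Finset ι}
    (hR : ∀ x ∈ Rx, (∀ i, D.a i x = 0) ∧ (D.deg x = q ^ 3 + 1 ∨ D.deg x = -(q ^ 3 + 1)) ∧
      D.tval x * D.tval x = (q + 1) ^ 2)
    (hcard : q - 3 ≤ 2 * (Rx.card : ℤ)) (hJ : q - 3 ≤ 8 * (Fintype.card J : ℤ))
    (htt : dot D.tval D.tval = q * (q ^ 2 - 1))
    {p : ℕ} (hp : p.Prime) (hp3 : p ≠ 3) {e : ℕ} (hpe : (p : ℤ) ^ e ∣ q ^ 2 - q + 1) (he : 0 < e)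
    {c : ι → ℂ} (hc1 : c D.one = 1) (hca : ∀ i, ∑ x, (D.a i x : ℂ) * c x = 0)
    (hvan : ∀ x, (p : ℤ) ^ e ∣ D.deg x → c x = 0) :
    ∑ x, (D.tval x : ℂ) ^ 2 * c x / (D.deg x : ℂ) ≠ 0 := by
  obtain ⟨t1, tA, tB, tB', tC, tC', tS, tT⟩ := R.tvals N
  have cA : c E.A = 0 := hvan _ (by rw [R.dA]; exact hpe.neg_right)
  have cS : c E.S = 0 := hvan _ (by rw [R.dS]; exact hpe.neg_right.mul_left _)
  -- the relations
  have hsupp : ∀ i, ∑ x ∈ supp (D.a i), c x = 0 := fun i => by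
    rw [← hca i, ← sum_subset (subset_univ (supp (D.a i))) fun x _ hx => by
      rw [N.ind i x, if_neg hx]; simp]
    exact sum_congr rfl fun x hx => by rw [N.ind i x, if_pos hx]; simp
  have nA := E.nodA
  have nB := E.nodB
  have nC := E.nodC
  simp only [List.nodup_cons, List.mem_cons, not_or, List.not_mem_nil, not_false_iff, and_true,
    List.nodup_nil] at nA nB nC
  have r0 := hsupp 0
  have r1 := hsupp 1
  have r2 := hsupp 2
  rw [E.suppA] at r0
  rw [E.suppB] at r1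
  rw [E.suppC] at r2
  simp [nA, hc1, cA, cS] at r0
  simp [nB, cS] at r1
  simp [nC, cS] at r2
  have cT : c E.T = -1 := by linear_combination r0
  rw [cT] at r1 r2
  have sB : D.deg E.B + D.deg E.B' = -(q ^ 2 - q) := by rw [R.B_sum, R.dA]; ring
  -- the third column has the same pair of degrees
  have dC : D.deg E.C + D.deg E.C' = -(q ^ 2 - q) := by
    obtain ⟨-, d1, d2⟩ := E.dots N D.deg
    rw [D.a_deg] at d1 d2
    linarith
  have hC3 : 3 * (D.deg E.C - D.deg E.C') ^ 2 = q * ((q - 1) * (q + 1)) ^ 2 := by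
    have h1 := D.fun_a 1 (by decide)
    have h2 := D.fun_a 2 (by decide)
    rw [← h1, N.classFn_a, N.classFn_a, E.suppB, E.suppC] at h2
    simp [nB, nC, tB, tB', tC, tC'] at h2
    have q1 : (D.deg E.B : ℚ) ≠ 0 := by exact_mod_cast D.deg_ne _
    have q2 : (D.deg E.B' : ℚ) ≠ 0 := by exact_mod_cast D.deg_ne _
    have q3 : (D.deg E.C : ℚ) ≠ 0 := by exact_mod_cast D.deg_ne _
    have q4 : (D.deg E.C' : ℚ) ≠ 0 := by exact_mod_cast D.deg_ne _
    have hh : (D.h : ℚ) ^ 2 ≠ 0 :=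
      pow_ne_zero 2 (by exact_mod_cast (by have := D.hh; omega : D.h ≠ 0))
    have h3 : (1 : ℚ) / D.deg E.C + 1 / D.deg E.C' = 1 / D.deg E.B + 1 / D.deg E.B' :=
      mul_left_cancel₀ hh (by linear_combination h2)
    field_simp at h3
    have h4 : ((D.deg E.C + D.deg E.C') * (D.deg E.B * D.deg E.B') : ℚ) =
        (D.deg E.B + D.deg E.B') * (D.deg E.C * D.deg E.C') := by linear_combination h3
    have h5 : (D.deg E.C + D.deg E.C') * (D.deg E.B * D.deg E.B') =
        (D.deg E.B + D.deg E.B') * (D.deg E.C * D.deg E.C') := by exact_mod_cast h4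
    rw [sB, dC] at h5
    have h6 : D.deg E.B * D.deg E.B' = D.deg E.C * D.deg E.C' :=
      mul_left_cancel₀ (by have := R.big; nlinarith : -(q ^ 2 - q) ≠ 0) h5
    linear_combination R.B_diff + 3 * (D.deg E.C + D.deg E.C' + D.deg E.B + D.deg E.B') *
      (dC.trans sB.symm) + 12 * h6
  obtain ⟨w, hw, hwb⟩ := R.pair_weight hp hp3 hpe he hvan sB R.B_diff (by linear_combination r1)
  obtain ⟨w', hw', hwb'⟩ := R.pair_weight hp hp3 hpe he hvan dC hC3 (by linear_combination r2)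
  -- reduce to the eight rows
  set U : Finset ι := {D.one, E.A, E.B, E.B', E.C, E.C', E.S, E.T}
  have hzero : ∀ x ∉ U, (D.tval x : ℂ) ^ 2 * c x / (D.deg x : ℂ) = 0 := by
    intro x hxU
    simp only [U, mem_insert, mem_singleton, not_or] at hxU
    have hxa : ∀ i, D.a i x = 0 := by
      intro i
      by_contra hc0
      have hm := mem_supp.2 hc0
      fin_cases i <;> simp only [Fin.zero_eta, Fin.mk_one, Fin.reduceFinMk] at hm <;>
        simp [E.suppA, E.suppB, E.suppC] at hm <;> tauto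
    by_cases hxp : ∃ j, D.p j x ≠ 0
    · obtain ⟨j, hj⟩ := hxp
      rw [hvan x (hpe.trans ((dvd_mul_left _ _).trans (R.p_dvd hj)))]
      simp
    · push Not at hxp
      by_cases hxR : x ∈ Rx
      · have h : (q ^ 2 - q + 1) ∣ D.deg x := by
          rcases (hR x hxR).2.1 with e | e <;> rw [e]
          · exact ⟨q + 1, by ring⟩
          · exact ⟨-(q + 1), by ring⟩
        rw [hvan x (hpe.trans h)]
        simp
      · rw [R.tval_zero N hR hcard hJ htt hxR hxa hxp]
        simp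
  have hn : [D.one, E.A, E.B, E.B', E.C, E.C', E.S, E.T].Nodup := by
    obtain ⟨⟨v1, v2, v3⟩, ⟨b1, b2, b3⟩, ⟨b1', b2', b3'⟩, ⟨c1, c2, c3⟩, ⟨c1', c2', c3'⟩, vS, vT⟩ :=
      E.vals N
    have o1 := D.a_one 1
    have o2 := D.a_one 2
    have o0 := D.a_one 0
    simp only [List.nodup_cons, List.mem_cons, not_or, List.not_mem_nil, not_false_iff, and_true,
      List.nodup_nil]
    refine ⟨⟨nA.1.1, ?_, ?_, ?_, ?_, nA.1.2.1, nA.1.2.2⟩, ⟨?_, ?_, ?_, ?_, nA.2.1.1, nA.2.1.2⟩,
      ⟨nB.1.1, ?_, ?_, nB.1.2.1, nB.1.2.2⟩, ⟨?_, ?_, nB.2.1.1, nB.2.1.2⟩,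
      ⟨nC.1.1, nC.1.2.1, nC.1.2.2⟩, ⟨nC.2.1.1, nC.2.1.2⟩, E.neS⟩ <;>
      intro e <;> simp_all
  rw [← sum_subset (subset_univ U) fun x _ hx => hzero x hx, show U =
    [D.one, E.A, E.B, E.B', E.C, E.C', E.S, E.T].toFinset by simp [U],
    List.sum_toFinset _ hn]
  simp only [List.map_cons, List.map_nil, List.sum_cons, List.sum_nil, t1, tA, tB, tB', tC, tC',
    tS, tT, hc1, cA, cS, cT, D.deg_one, R.dT]
  have hq := R.big
  have hh : (D.h : ℚ) = ((q : ℚ) - 1) / 2 := by
    have : (2 * D.h : ℚ) = (q : ℚ) - 1 := by exact_mod_cast R.two_h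
    linarith
  have key : (1 : ℚ) - 1 / q + (D.h : ℚ) ^ 2 * w + (D.h : ℚ) ^ 2 * w' ≠ 0 := by
    rw [hh]
    have h1 := abs_le.1 hwb
    have h2 := abs_le.1 hwb'
    have h3 : (1 : ℚ) / q ≤ 1 / 27 :=
      one_div_le_one_div_of_le (by norm_num) (by exact_mod_cast hq)
    intro e
    nlinarith
  intro e0
  refine key ?_
  have hC : ((((1 : ℚ) - 1 / q + (D.h : ℚ) ^ 2 * w + (D.h : ℚ) ^ 2 * w') : ℚ) : ℂ) = 0 := by
    push_cast
    rw [← hw, ← hw', ← e0]
    simp only [Int.cast_pow, Int.cast_one]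
    have hqc : (q : ℂ) ≠ 0 := by exact_mod_cast (by omega : q ≠ 0)
    field_simp
    ring
  exact_mod_cast hC

end ReeData

end Cfsg.Agent.H72.PiHom.Table
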