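import Cfsg.Agent.H72.PiHom.ReeExc
import Cfsg.Agent.H72.PiHom.ReeTable
import Cfsg.Agent.H29.Ward.PairKill
import Cfsg.Agent.H79.Ward.Degrees
import Cfsg.Agent.H15.Ward.PslSide
import Cfsg.Agent.H15.Ward.PslConj
import Cfsg.Agent.H26.DefectZero

/-!
# Real elements for the Ree parameters

An element of prime order `p ∣ q² - q + 1`, `p ≠ 3`, is inverted by an involution: the number of
pairs of involutions with that product is a nonzero multiple of the weighted sum of the table.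
-/

set_option autoImplicit false
set_option linter.unusedSectionVars false
set_option linter.style.haveILetI false

namespace Cfsg.Agent.H72.PiHom

open Subgroup Cfsg Cfsg.Agent Cfsg.Agent.CharBasic
open Cfsg.Agent.Linear.Dickson Cfsg.Agent.H29.Ward
open Cfsg.Agent.H84.Ward (TData LSide tu)
open Cfsg.Agent.H64.Ward (Normal Eight IsSign dot)
open scoped ComplexConjugate

universe u

variable {G : Type u} [Group G] [Fintype G] {F : Type} [Field F] [Fintype F] {t v : G}

local notation "P2" => Matrix.ProjectiveSpecialLinearGroup (Fin 2) F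

theorem ReeParam.eleven (P : ReeParam G F) : 11 ≤ Fintype.card F := by
  have := P.big; omega

theorem ReeParam.signedQ_eq (P : ReeParam G F) : signedQ F = (Fintype.card F : ℤ) := by
  rw [signedQ, if_pos P.mod_eight]

theorem ReeParam.card_int (P : ReeParam G F) : (Nat.card G : ℤ) =
    (Fintype.card F : ℤ) ^ 3 * ((Fintype.card F : ℤ) ^ 3 + 1) * ((Fintype.card F : ℤ) - 1) := by
  have := P.big
  rw [P.card, Nat.cast_mul, Nat.cast_mul, Nat.cast_sub (by omega)]
  push_cast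
  rfl

/-- The exceptional rows from the vectors. -/
theorem Table.ReeData.exists_rows {ι : Type*} [Fintype ι] [DecidableEq ι] {J W : Type*} [Fintype J]
    [Fintype W] {D : H64.Ward.Cols ι J W} {E : Eight D} {q : ℤ} (R : Table.ReeData D E q)
    (N : Normal D) {H : Type*} (dom : Finset H) (iv : H → H) (v : Bool → H → ι → ℤ)
    (hv : ∀ b, ∀ ψ ∈ dom, dot (v b ψ) (v b ψ) = 3 ∧ dot (v b ψ) D.deg = 0 ∧
      dot (v b ψ) D.tval = 0 ∧ (∀ i, dot (D.a i) (v b ψ) = if i = 0 then 2 else 1) ∧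
      v b ψ D.one = if b = true then 1 else 0)
    (hgram : ∀ b c, ∀ ψ ∈ dom, ∀ μ ∈ dom, (b = c → μ ≠ ψ ∧ μ ≠ iv ψ) →
      dot (v b ψ) (v c μ) = if b = c then 2 else 0)
    (hdvd : ∀ x, D.deg x ∣ q ^ 3 * (q ^ 3 + 1) * (q - 1)) :
    ∃ Rx : Finset ι, (∀ x ∈ Rx, (∀ i, D.a i x = 0) ∧
        (D.deg x = q ^ 3 + 1 ∨ D.deg x = -(q ^ 3 + 1)) ∧ D.tval x * D.tval x = (q + 1) ^ 2) ∧
      dom.card ≤ Rx.card := by
  classical
  haveI : Nonempty ι := ⟨D.one⟩
  choose! xf hxf using fun (z : Bool × H) (hz : z.2 ∈ dom) =>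
    R.exc_row N (hv z.1 z.2 hz).1 (hv z.1 z.2 hz).2.1 (hv z.1 z.2 hz).2.2.1 (hv z.1 z.2 hz).2.2.2.1
      hdvd
  have hfib : ∀ z w : Bool × H, z.2 ∈ dom → w.2 ∈ dom → xf z = xf w →
      z.1 = w.1 ∧ (w.2 = z.2 ∨ w.2 = iv z.2) := by
    intro z w hz hw hzw
    by_contra hne
    obtain ⟨xa, xv, -, -, xz⟩ := hxf z hz
    obtain ⟨-, xv', -, -, xz'⟩ := hxf w hw
    have h1 := (hv z.1 z.2 hz).2.2.2.2
    have h1' := (hv w.1 w.2 hw).2.2.2.2
    refine R.exc_inj N xa xv xv' ?_ ?_ xz xz' ?_ hzw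
    · rw [h1]; cases z.1 <;> simp
    · rw [h1']; cases w.1 <;> simp
    · rw [hgram _ _ _ hz _ hw fun e => ⟨fun e' => hne ⟨e, Or.inl e'⟩,
        fun e' => hne ⟨e, Or.inr e'⟩⟩, h1, h1']
      rcases z.1 <;> rcases w.1 <;> simp
  refine ⟨((Finset.univ : Finset Bool) ×ˢ dom).image xf, fun x hx => ?_, ?_⟩
  · obtain ⟨z, hz, rfl⟩ := Finset.mem_image.1 hx
    obtain ⟨a, -, b, c, -⟩ := hxf z (Finset.mem_product.1 hz).2
    exact ⟨a, b, c⟩
  · have h2 : ((Finset.univ : Finset Bool) ×ˢ dom).card ≤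
        2 * (((Finset.univ : Finset Bool) ×ˢ dom).image xf).card := by
      refine Finset.card_le_mul_card_image _ _ fun x hx => ?_
      obtain ⟨⟨b, ψ⟩, hz, rfl⟩ := Finset.mem_image.1 hx
      refine (Finset.card_le_card (t := {(b, ψ), (b, iv ψ)}) ?_).trans Finset.card_le_two
      rintro ⟨c, μ⟩ hw
      rw [Finset.mem_filter] at hw
      obtain ⟨e1, e2⟩ := hfib _ _ (Finset.mem_product.1 hz).2 (Finset.mem_product.1 hw.1).2 hw.2.symm
      simp only at e1 e2
      subst e1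
      rcases e2 with rfl | rfl <;> simp
    rw [Finset.card_product, Finset.card_univ, Fintype.card_bool] at h2
    omega

/-- The split torus with the values of the principal functions there. -/
theorem exists_splitCfg (h : Hyp G F t) (P : ReeParam G F) (f : Frame G F t v) [Fintype P2] :
    ∃ U : Subgroup P2, SplitCfg f.D U ∧ 2 * Nat.card ↥U + 1 = Fintype.card F ∧
      ∀ (i : Fin 3) (x : P2), x ∈ U → x ≠ 1 →
        (H15.Ward.toriOfFrame f h.five h.mod_eight).side.θ (.inl i) x =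
          if i = 0 then 2 else 1 := by
  set T := H15.Ward.toriOfFrame f h.five h.mod_eight with hT
  have hM : 2 * Nat.card T.M + 1 = Fintype.card F := by
    rcases T.card_M_cases with ⟨-, e⟩ | ⟨e, -⟩
    · exact e
    · have := P.mod_eight; omega
  have hord : ∀ x ∈ T.M, orderOf x ∣ (Fintype.card F - 1) / 2 := fun x hx => by
    rw [show (Fintype.card F - 1) / 2 = Nat.card T.M by omega]
    exact orderOf_dvd_natCard _ hx
  have hsq : ∀ x ∈ T.M, x ≠ 1 → x * x ≠ 1 := fun x hx hx1 =>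
    H15.Ward.sq_ne_one_of_odd hx1 (T.odd_M.of_dvd_nat (orderOf_dvd_natCard _ hx))
  refine ⟨T.M, ⟨T.odd_M, ?_, ?_, ?_, ?_, ?_⟩, hM, fun i x hx hx1 =>
    T.side_prin_of_dvd hx1 (orderOf_dvd_natCard _ hx) i⟩
  · exact fun x hx y hy => cen_comm (ne_one_of_not_isUni T.not_isUni_a) hx hy
  · exact fun x hx hx1 g hg => H15.Ward.tor_centralizer T.not_isUni_a hx (hsq x hx hx1) hg
  · exact fun x hx hx1 g hg => H15.Ward.tor_fusion T.not_isUni_a hx hx1 hg
  · obtain ⟨w, -, hinv⟩ := H15.Ward.tor_inverter T.not_isUni_a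
    exact ⟨w⁻¹, fun x hx => by rw [inv_inv]; exact hinv x hx⟩
  · intro x hx hx1 g hg
    rw [f.dt]
    exact commute_of_split h P f.D f.dt hx1 (hord x hx) hg

variable [Fintype (Matrix.ProjectiveSpecialLinearGroup (Fin 2) F)] {J W : Type} [Fintype J]
  [Fintype W]

open scoped Classical in
/-- The table of the main case. -/
theorem exists_reeData (h : Hyp G F t) (P : ReeParam G F) (f : Frame G F t v)
    (hfpf : ∀ k ∈ f.P.K, f.P.w * k * f.P.w⁻¹ = k → k = 1)
    {X : LSide P2 (Fin 3 ⊕ J ⊕ W)} (hX : IsPslSide X (signedQ F) (signedH F))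
    {μ : J → (↥f.P.K →* ℂˣ)} (hV : TorusValues X f.iota μ) :
    ∃ s : IrrCharacter G → ℤ, ∃ hs : IsSign (H36.SelfCentral.triv G) s,
      ∃ E : Eight ((cols f.D hX (h.signedQ_spec P.eleven).1 (h.signedQ_spec P.eleven).2
        (f.conj_invol h)).flip hs),
        Normal ((cols f.D hX (h.signedQ_spec P.eleven).1 (h.signedQ_spec P.eleven).2
          (f.conj_invol h)).flip hs) ∧
        Table.ReeData _ E (Fintype.card F : ℤ) := by
  obtain ⟨s, hs, N, E, hbal, hmain | ⟨hpe, hH⟩⟩ :=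
    H64.Ward.Cols.table (cols f.D hX (h.signedQ_spec P.eleven).1 (h.signedQ_spec P.eleven).2
      (f.conj_invol h)) (nonempty_index h P.eleven f hV) (exists_orbit h P.eleven f hfpf hX hV)
  swap
  · exact (pair_false h P.eleven f hfpf hX hV hs N E hbal hpe hH).elim
  simp only [cols] at hmain
  obtain ⟨hQ, hA, hy, hD, hsum, hdiff⟩ := H79.Ward.degrees_of_main h P.eleven f.D hmain
  refine ⟨s, hs, E, N, ⟨hQ, by exact_mod_cast P.big, hbal, hA, ?_, hD, hsum, hdiff, ?_, ?_⟩⟩
  · show s E.S * (charDegree (E.S : G → ℂ) : ℤ) = _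
    rw [hy, hA]
  · obtain ⟨-, -, -, -, -, -, -, -, -, -, hexc, -⟩ := hmain
    have hQ' : (signedQ F : ℚ) = (Fintype.card F : ℚ) := by exact_mod_cast hQ
    rw [hQ', hy, hA] at hexc
    show kval f.D (signedQ F) * _ = _
    rw [← hexc]
    have hq : (27 : ℚ) ≤ (Fintype.card F : ℚ) := by exact_mod_cast P.big
    push_cast
    have h1 : ((Fintype.card F : ℚ) ^ 2 - Fintype.card F + 1) ≠ 0 := by nlinarith
    have h2 : (Fintype.card F : ℚ) - 1 ≠ 0 := by linarith
    have h3 : (Fintype.card F : ℚ) ≠ 0 := by linarith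
    rw [show (Fintype.card F : ℚ) * (-((Fintype.card F : ℚ) ^ 2 - Fintype.card F + 1) -
        (Fintype.card F : ℚ) * -((Fintype.card F : ℚ) ^ 2 - Fintype.card F + 1)) =
        (Fintype.card F : ℚ) * (((Fintype.card F : ℚ) - 1) *
          ((Fintype.card F : ℚ) ^ 2 - Fintype.card F + 1)) by ring,
      div_mul_cancel₀ _ (mul_ne_zero h3 (mul_ne_zero h2 h1))]
  · intro j
    obtain ⟨O, i, hi⟩ := exists_orbit h P.eleven f hfpf hX hV j
    exact ⟨O.flip hs, i, hi⟩

omit [Fintype (Matrix.ProjectiveSpecialLinearGroup (Fin 2) F)] in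
/-- **An element of prime order dividing `q² - q + 1` is real.** -/
theorem real_of_dvd (h : Hyp G F t) (P : ReeParam G F) (f : Frame G F t v)
    (hfpf : ∀ k ∈ f.P.K, f.P.w * k * f.P.w⁻¹ = k → k = 1) {p : ℕ} (hp : p.Prime) (hp3 : p ≠ 3)
    (hd : (p : ℤ) ∣ (Fintype.card F : ℤ) ^ 2 - Fintype.card F + 1) :
    ∃ x g : G, orderOf x = p ∧ g * x * g⁻¹ = x⁻¹ := by
  classical
  letI : Fintype P2 := Fintype.ofFinite _
  haveI : Fact p.Prime := ⟨hp⟩
  obtain ⟨U, S, hU, hUθ⟩ := exists_splitCfg h P f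
  set T := H15.Ward.toriOfFrame f h.five h.mod_eight with hT
  have hV := H15.Ward.toriOfFrame_torusValues f h.five h.mod_eight
  obtain ⟨s, hs, E, N, R⟩ := exists_reeData h P f hfpf T.isPslSide hV
  set q : ℤ := (Fintype.card F : ℤ) with hq
  have hq27 : 27 ≤ q := R.big
  have hsq : ∀ χ, s χ * s χ = 1 := hs.sq
  -- the prime
  have hpZ : Prime (p : ℤ) := Nat.prime_iff_prime_int.1 hp
  have hp2 : p ≠ 2 := by
    rintro rfl
    have h1 : Even (q ^ 2 - q) := by
      rw [show q ^ 2 - q = (q - 1) * q by ring]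
      simpa using Int.even_mul_pred_self q |> fun e => by rwa [mul_comm] at e
    obtain ⟨a, ha⟩ := h1
    obtain ⟨b, hb⟩ := hd
    push_cast at hb
    omega
  have hpcard : (p : ℤ) ∣ (Nat.card G : ℤ) := by
    rw [P.card_int]
    exact hd.trans ⟨q ^ 3 * (q + 1) * (q - 1), by ring⟩
  have hndvd : ¬ (p : ℤ) ∣ q ^ 3 * (q - 1) * (q + 1) := by
    intro hc
    rcases hpZ.dvd_or_dvd hc with hc | hc
    · rcases hpZ.dvd_or_dvd hc with hc | hc
      · have := dvd_sub hd ((hpZ.dvd_of_dvd_pow hc).mul_right (q - 1))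
        rw [show q ^ 2 - q + 1 - q * (q - 1) = 1 by ring] at this
        exact hpZ.not_dvd_one this
      · have := dvd_sub hd (hc.mul_right q)
        rw [show q ^ 2 - q + 1 - (q - 1) * q = 1 by ring] at this
        exact hpZ.not_dvd_one this
    · have := dvd_sub hd (hc.mul_right (q - 2))
      rw [show q ^ 2 - q + 1 - (q + 1) * (q - 2) = 3 by ring] at this
      exact hp3 ((Nat.prime_dvd_prime_iff_eq hp Nat.prime_three).1 (by exact_mod_cast this))
  obtain ⟨e, he⟩ : ∃ e, e = (Nat.card G).factorization p := ⟨_, rfl⟩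
  have hpcard' : p ∣ Nat.card G := by exact_mod_cast hpcard
  have he0 : 0 < e := by
    rw [he]
    exact (hp.factorization_pos_of_dvd Nat.card_pos.ne' hpcard')
  have hpe0 : p ^ e ∣ Nat.card G := he ▸ Nat.ordProj_dvd _ _
  have hpe : (p : ℤ) ^ e ∣ q ^ 2 - q + 1 := by
    refine hpZ.pow_dvd_of_dvd_mul_left _ hndvd ?_
    rw [show q ^ 3 * (q - 1) * (q + 1) * (q ^ 2 - q + 1) = q ^ 3 * (q ^ 3 + 1) * (q - 1) by ring,
      hq, ← P.card_int]
    exact_mod_cast hpe0
  obtain ⟨y, hy⟩ := exists_prime_orderOf_dvd_card' p hpcard'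
  -- the degrees divide the order
  have hdvd : ∀ χ, s χ * (charDegree (χ : G → ℂ) : ℤ) ∣ q ^ 3 * (q ^ 3 + 1) * (q - 1) := fun χ => by
    rw [hq, ← P.card_int]
    exact ((IsUnit.of_mul_eq_one _ (hsq χ)).mul_left_dvd).2 (degree_dvd_card χ)
  -- the exceptional rows
  haveI : Fintype ↥U := Fintype.ofFinite _
  have hUc : ∀ a b : ↥U, a * b = b * a := fun a b => Subtype.ext (S.comm a a.2 b b.2).eq
  have hUhom : Nat.card (↥U →* ℂˣ) = Nat.card ↥U := H15.Ward.card_homs hUc
  haveI : Finite (↥U →* ℂˣ) := Nat.finite_of_card_ne_zero (by rw [hUhom]; exact Nat.card_pos.ne')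
  haveI : Fintype (↥U →* ℂˣ) := Fintype.ofFinite _
  obtain ⟨vv, hvv⟩ := S.exists_vectors (fun i => T.side.θ (.inl i)) (fun i => T.side.van (.inl i))
    (fun i x hx => hUθ i x x.2 fun e => hx (Subtype.ext e))
  have hU1 : ∀ ψ : ↥U →* ℂˣ, ψ ∈ Finset.univ.erase 1 → ψ ≠ 1 := fun _ h =>
    Finset.ne_of_mem_erase h
  obtain ⟨Rx, hRx, hcardRx⟩ := R.exists_rows N (Finset.univ.erase (1 : ↥U →* ℂˣ))
    (fun ψ => ψ⁻¹) (fun b ψ => s * vv b ψ)
    (fun b ψ hψ => by
      obtain ⟨hd0, ht0, ha, h1, hn3, -⟩ := hvv b ψ (hU1 ψ hψ)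
      refine ⟨(hs.dot_mul _ _).trans hn3, (hs.dot_mul _ _).trans hd0,
        (hs.dot_mul _ _).trans ?_, fun i => (hs.dot_mul _ _).trans (ha i), ?_⟩
      · have h0 : ((∑ χ, vv b ψ χ * f.D.val T.side χ : ℤ) : ℂ) = 0 := by
          push_cast
          rw [← ht0]
          exact Finset.sum_congr rfl fun χ _ => by rw [f.D.apply_val T.side χ]
        exact_mod_cast h0
      · show s (H36.SelfCentral.triv G) * vv b ψ (H36.SelfCentral.triv G) = _
        rw [h1, hs.one, one_mul])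
    (fun b c ψ hψ μ hμ hne => by
      refine (hs.dot_mul _ _).trans (((hvv b ψ (hU1 ψ hψ)).2.2.2.2.2 c μ (hU1 μ hμ)).trans ?_)
      rcases eq_or_ne b c with rfl | hbc
      · obtain ⟨n1, n2⟩ := hne rfl
        have e2 : ψ * μ ≠ 1 := fun e => n2 (MonoidHom.ext fun x =>
          eq_inv_of_mul_eq_one_right (DFunLike.congr_fun e x))
        rw [if_pos rfl, if_neg n1.symm, if_neg e2, if_pos rfl]
        rfl
      · rw [if_neg hbc, if_neg hbc])
    hdvd
  have hcard : q - 3 ≤ 2 * (Rx.card : ℤ) := by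
    rw [Finset.card_erase_of_mem (Finset.mem_univ _), Finset.card_univ, ← Nat.card_eq_fintype_card,
      hUhom] at hcardRx
    omega
  -- the number of discrete columns
  have hKc : ∀ a b : ↥f.P.K, a * b = b * a := fun a b => Subtype.ext (f.P.comm_K a a.2 b b.2).eq
  have hKhom : Nat.card (↥f.P.K →* ℂˣ) = Nat.card ↥f.P.K := H15.Ward.card_homs hKc
  haveI : Finite (↥f.P.K →* ℂˣ) :=
    Nat.finite_of_card_ne_zero (by rw [hKhom]; exact Nat.card_pos.ne')
  haveI : Fintype (↥f.P.K →* ℂˣ) := Fintype.ofFinite _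
  have hJ : q - 3 ≤ 8 * (Fintype.card {x // x ∈ T.halfK} : ℤ) := by
    have hsub : (Finset.univ.erase (1 : ↥f.P.K →* ℂˣ)) ⊆
        (Finset.univ : Finset {x // x ∈ T.halfK}).image (fun l => l.1.comp f.ι.symm.toMonoidHom) ∪
          (Finset.univ : Finset {x // x ∈ T.halfK}).image
            (fun l => (l.1.comp f.ι.symm.toMonoidHom)⁻¹) := by
      intro ν hν
      obtain ⟨l, hl | hl⟩ := hV.surj ν (Finset.ne_of_mem_erase hν)
      · exact Finset.mem_union_left _ (Finset.mem_image.2 ⟨l, Finset.mem_univ _, hl⟩)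
      · refine Finset.mem_union_right _ (Finset.mem_image.2 ⟨l, Finset.mem_univ _, ?_⟩)
        rw [hl]
        exact MonoidHom.ext fun x => inv_inv _
    have h1 := (Finset.card_le_card hsub).trans (Finset.card_union_le _ _)
    rw [Finset.card_erase_of_mem (Finset.mem_univ _), Finset.card_univ, ← Nat.card_eq_fintype_card,
      hKhom] at h1
    have h2 := Finset.card_image_le (s := (Finset.univ : Finset {x // x ∈ T.halfK}))
      (f := fun l => l.1.comp f.ι.symm.toMonoidHom)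
    have h3 := Finset.card_image_le (s := (Finset.univ : Finset {x // x ∈ T.halfK}))
      (f := fun l => (l.1.comp f.ι.symm.toMonoidHom)⁻¹)
    rw [Finset.card_univ] at h2 h3
    have h4 := f.card_three P.mod_eight
    rw [← f.card_K] at h4
    omega
  -- the values at `t`
  have htt : ∑ χ, (s χ * f.D.val T.side χ) * (s χ * f.D.val T.side χ) = q * (q ^ 2 - 1) := by
    have h1 := second_orthogonality_self f.D.t
    simp only [f.D.apply_val T.side, map_intCast] at h1
    have h2 : ∑ χ, f.D.val T.side χ * f.D.val T.side χ =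
        (Nat.card (centralizer ({f.D.t} : Set G)) : ℤ) := by exact_mod_cast h1
    rw [Finset.sum_congr rfl fun χ _ => show (s χ * f.D.val T.side χ) * (s χ * f.D.val T.side χ) =
      f.D.val T.side χ * f.D.val T.side χ by rw [mul_mul_mul_comm, hsq, one_mul], h2,
      f.D.card_centralizer, H56.CTwoAb.card_psl_two_odd (Nat.odd_iff.1 h.odd), Nat.cast_mul,
      Nat.cast_sub (Nat.one_le_pow _ _ (by omega))]
    push_cast
    rfl
  -- the values at `y`
  have hF : ∀ i, f.D.F (T.side.θ i) y = 0 := fun i => by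
    refine f.D.F_eq_zero (T.side.van i) fun g a ha e => ?_
    have h2 : orderOf (g⁻¹ * y * g) = p := by
      rw [show g⁻¹ * y * g = (MulAut.conj g⁻¹).toMonoidHom y by simp,
        orderOf_injective (MulAut.conj g⁻¹).toMonoidHom (MulAut.conj g⁻¹).injective, hy]
    rw [e, orderOf_injective f.D.emb f.D.emb_injective, Prod.orderOf] at h2
    have h3 : orderOf tu ∣ p := h2 ▸ Nat.dvd_lcm_left _ _
    rw [orderOf_eq_prime (by rw [pow_two, H84.Ward.tu_mul_self]) H84.Ward.tu_ne_one] at h3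
    exact hp2 ((Nat.prime_dvd_prime_iff_eq Nat.prime_two hp).1 h3).symm
  have hsum := R.sum_ne N (Rx := Rx) hRx hcard hJ htt hp hp3 hpe he0
    (c := fun χ => (s χ : ℂ) * conj ((χ : G → ℂ) y))
    (by
      show (s (H36.SelfCentral.triv G) : ℂ) * conj (1 : ℂ) = 1
      rw [hs.one, map_one]
      simp)
    (fun i => by
      show ∑ χ, ((s χ * f.D.d T.side (.inl i) χ : ℤ) : ℂ) * ((s χ : ℂ) * conj ((χ : G → ℂ) y)) = 0
      have h1 := congrArg conj (f.D.expansion (T.side.van (.inl i)) y)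
      rw [hF, map_zero, map_sum] at h1
      rw [← h1]
      refine Finset.sum_congr rfl fun χ _ => ?_
      have h2 : ((s χ : ℂ) * (s χ : ℂ)) = 1 := by exact_mod_cast hsq χ
      rw [map_mul, map_intCast]
      push_cast
      show (s χ : ℂ) * (f.D.coef _ χ : ℂ) * _ = _
      linear_combination ((f.D.coef (T.side.van (.inl i)) χ : ℂ) * conj ((χ : G → ℂ) y)) * h2)
    (fun χ hχ => by
      have h1 : p ^ e ∣ charDegree (χ : G → ℂ) := by
        have h0 : (p : ℤ) ^ e ∣ (charDegree (χ : G → ℂ) : ℤ) :=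
          ((IsUnit.of_mul_eq_one _ (hsq χ)).dvd_mul_left).1 hχ
        exact_mod_cast h0
      obtain ⟨m, ρ, hρ, hρχ⟩ := χ.2
      haveI := hρ
      have hm : charDegree (χ : G → ℂ) = m := by
        have h2 : (χ : G → ℂ) 1 = (m : ℂ) := by
          rw [← hρχ, Representation.char_one, Module.finrank_fin_fun]
        rw [(H83.charDegree_eq χ.2).1] at h2
        exact_mod_cast h2
      show (s χ : ℂ) * conj ((χ : G → ℂ) y) = 0
      rw [← hρχ, H26.defect_zero_vanish ρ hp hpe0 (by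
          rw [hp.pow_dvd_iff_le_factorization Nat.card_pos.ne', ← he]; omega)
        (by rw [Module.finrank_fin_fun, ← hm]; exact h1) (hy ▸ dvd_rfl), map_zero, mul_zero])
  have hsum' : ∑ χ : IrrCharacter G, (f.D.val T.side χ : ℂ) * (f.D.val T.side χ : ℂ) *
      (χ : G → ℂ) y / (charDegree (χ : G → ℂ) : ℂ) ≠ 0 := by
    intro h0
    apply hsum
    have h1 := congrArg conj h0
    rw [map_zero, map_sum] at h1
    rw [← h1]
    refine Finset.sum_congr rfl fun χ _ => ?_
    show ((s χ * f.D.val T.side χ : ℤ) : ℂ) ^ 2 * ((s χ : ℂ) * conj ((χ : G → ℂ) y)) /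
      ((s χ * (charDegree (χ : G → ℂ) : ℤ) : ℤ) : ℂ) = _
    simp only [map_div₀, map_mul, map_natCast, map_intCast]
    rcases mul_self_eq_one_iff.1 (hsq χ) with e | e <;> rw [e] <;> push_cast <;> ring
  obtain ⟨a, ha, ha'⟩ : ∃ a : G, IsConj f.D.t a ∧ IsConj f.D.t (a⁻¹ * y) := by
    by_contra hc
    push Not at hc
    haveI : IsEmpty {a : G // IsConj f.D.t a ∧ IsConj f.D.t (a⁻¹ * y)} :=
      ⟨fun a => hc a.1 a.2.1 a.2.2⟩
    have h1 := H83.card_pairs_mul_card f.D.t f.D.t y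
    have h0 : Nat.card {a : G // IsConj f.D.t a ∧ IsConj f.D.t (a⁻¹ * y)} = 0 :=
      Nat.card_of_isEmpty
    rw [h0, Nat.cast_zero, mul_zero] at h1
    simp only [f.D.apply_val T.side, map_intCast, fun χ : IrrCharacter G =>
      (H83.charDegree_eq χ.2).1] at h1
    rcases mul_eq_zero.1 h1.symm with h2 | h2
    · have : (centralizer ({f.D.t} : Set G)).index ≠ 0 := Subgroup.index_ne_zero_of_finite
      rcases mul_eq_zero.1 h2 with h3 | h3 <;> exact this (by exact_mod_cast h3)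
    · exact hsum' h2
  have hinv : ∀ u : G, IsConj f.D.t u → u * u = 1 := fun u hu => by
    obtain ⟨k, rfl⟩ := isConj_iff.1 hu
    rw [show k * f.D.t * k⁻¹ * (k * f.D.t * k⁻¹) = k * (f.D.t * f.D.t) * k⁻¹ by group, f.D.t_sq]
    group
  have ha1 : a⁻¹ = a := inv_eq_of_mul_eq_one_left (hinv a ha)
  have hb := hinv _ ha'
  rw [ha1] at hb
  refine ⟨y, a, hy, eq_inv_of_mul_eq_one_left ?_⟩
  rw [ha1, mul_assoc (a * y) a y]
  exact hb

end Cfsg.Agent.H72.PiHom
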