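import Cfsg.Agent.H72.PiHom.ReeReal
import Cfsg.Agent.H72.PiHom.JOneReal
import Cfsg.Agent.H72.PiHom.Defs
import Cfsg.Agent.H28.WardCons.Basic
import Cfsg.Agent.H79.Ward.Setup
import Cfsg.Agent.S0343

/-!
# The fact about type R needed for π-homogeneous groups

From the structure of the involution centraliser (`TypeRCentralizer`) and Ward's theorem: an odd
prime divides the order of the `PSL₂` subgroup, or an element of that order is real.
-/

set_option autoImplicit false
set_option linter.unusedSectionVars false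
set_option linter.style.haveILetI false

namespace Cfsg.Agent.H72.PiHom

open Subgroup Cfsg.Agent Cfsg.Agent.H29.Ward

universe u

theorem typeR_hyp (hC : H28.WardCons.TypeRCentralizer.{u}) : TypeRHyp.{u} := by
  intro X _ _ hs hab hR p hp hp2 hdX
  haveI := hs
  have hna : ¬ IsMulCommutative X := by
    intro hc
    letI : CommGroup X := { ‹Group X› with mul_comm := fun a b => hc.is_comm.comm a b }
    have hpr : (Nat.card X).Prime := IsSimpleGroup.prime_card
    obtain ⟨S⟩ := (inferInstance : Nonempty (Sylow 2 X))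
    have h8 : (8 : ℕ) ∣ Nat.card X := hR.1 S ▸ card_subgroup_dvd_card _
    have := (Nat.prime_dvd_prime_iff_eq Nat.prime_two hpr).1 ((by norm_num : 2 ∣ 8).trans h8)
    omega
  obtain ⟨t, F, hF, hFt, ht, h5, h8, hiso⟩ := hC X hs hna hab hR
  have hab' : ∀ P : Sylow 2 X, ∀ a b : P, a * b = b * a := fun P a b => (hab P).1.comm a b
  set P2 := Matrix.ProjectiveSpecialLinearGroup (Fin 2) F
  -- the subgroup `PSL₂`
  obtain ⟨e⟩ := hiso
  let ψ : P2 →* X := ((centralizer ({t} : Set X)).subtype.comp e.symm.toMonoidHom).comp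
    (MonoidHom.inr _ _)
  have hψ : Function.Injective ψ := fun a b hab =>
    congrArg Prod.snd (e.symm.injective (Subtype.ext hab))
  have hL : p ∣ Nat.card P2 → ∃ L : Subgroup X, H10.Walter.IsOddPSL ↥L ∧ p ∣ Nat.card L := by
    intro h
    refine ⟨ψ.range, ⟨F, hF, hFt, h5, h8, ⟨(MonoidHom.ofInjective hψ).symm⟩⟩, ?_⟩
    rwa [← Nat.card_congr (MonoidHom.ofInjective hψ).toEquiv]
  have hP2 : 2 * Nat.card P2 = Fintype.card F * (Fintype.card F ^ 2 - 1) :=
    H56.CTwoAb.card_psl_two_odd (by omega)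
  have hodd : Odd (Fintype.card F) := Nat.odd_iff.2 (by omega)
  rcases S0343.result hab' (show 3 ≤ Fintype.card F by omega) t ht ⟨e⟩ with
    ⟨m, hm, hq, hcard⟩ | ⟨h45, hj⟩
  swap
  · -- the first Janko group
    have hq5 : Fintype.card F = 5 := by omega
    have hcases : p = 3 ∨ p = 5 ∨ p = 7 ∨ p = 11 ∨ p = 19 := by
      rw [hj.2, show 175560 = 2 * 2 * 2 * 3 * 5 * 7 * 11 * 19 from rfl] at hdX
      have hd := fun (r : ℕ) (hr : r.Prime) (h : p ∣ r) => (Nat.prime_dvd_prime_iff_eq hp hr).1 h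
      simp only [hp.dvd_mul] at hdX
      rcases hdX with (((((((h | h) | h) | h) | h) | h) | h) | h) <;>
        have := hd _ (by norm_num) h <;> omega
    rcases hcases with rfl | rfl | rfl | rfl | rfl
    · exact Or.inl (hL (by rw [hq5] at hP2; omega))
    · exact Or.inl (hL (by rw [hq5] at hP2; omega))
    all_goals exact Or.inr (jone_real hj (by norm_num))
  · -- the Ree parameters
    letI : Fintype X := Fintype.ofFinite X
    have hH : Hyp X F t := ⟨hs, hab', ht, ⟨e⟩, h5, hodd⟩
    have P : ReeParam X F := ⟨⟨m, hm, hq⟩, by rw [hcard, hq]⟩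
    by_cases hd : p ∣ Fintype.card F * (Fintype.card F ^ 2 - 1)
    · refine Or.inl (hL ((Nat.Coprime.dvd_mul_left ?_).1 (hP2.symm ▸ hd)))
      exact (Nat.coprime_primes hp Nat.prime_two).2 hp2
    · refine Or.inr ?_
      have hq1 : 1 ≤ Fintype.card F ^ 2 := Nat.one_le_pow _ _ (by omega)
      have hdZ : ¬ (p : ℤ) ∣ (Fintype.card F : ℤ) * ((Fintype.card F : ℤ) ^ 2 - 1) := fun h => hd (by
        have e : ((Fintype.card F * (Fintype.card F ^ 2 - 1) : ℕ) : ℤ) =
            (Fintype.card F : ℤ) * ((Fintype.card F : ℤ) ^ 2 - 1) := by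
          rw [Nat.cast_mul, Nat.cast_sub hq1]; push_cast; rfl
        rw [← e] at h
        exact_mod_cast h)
      have hp3 : p ≠ 3 := by
        rintro rfl
        exact hd (Dvd.dvd.mul_right (Nat.dvd_of_mod_eq_zero P.mod_three) _)
      have hpZ : Prime (p : ℤ) := Nat.prime_iff_prime_int.1 hp
      have hdX' : (p : ℤ) ∣ (Nat.card X : ℤ) := Int.natCast_dvd_natCast.2 hdX
      rw [P.card_int, show (Fintype.card F : ℤ) ^ 3 * ((Fintype.card F : ℤ) ^ 3 + 1) *
          ((Fintype.card F : ℤ) - 1) = (Fintype.card F : ℤ) ^ 2 *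
            ((Fintype.card F : ℤ) * ((Fintype.card F : ℤ) ^ 2 - 1)) *
            ((Fintype.card F : ℤ) ^ 2 - Fintype.card F + 1) by ring] at hdX'
      have hd2 : (p : ℤ) ∣ (Fintype.card F : ℤ) ^ 2 - Fintype.card F + 1 := by
        refine (hpZ.dvd_or_dvd hdX').resolve_left fun h => ?_
        rcases hpZ.dvd_or_dvd h with h | h
        · exact hdZ ((hpZ.dvd_of_dvd_pow h).mul_right _)
        · exact hdZ h
      obtain ⟨v, -, -, -, -, f, hfpf⟩ := H79.Ward.exists_frame_fpf hH (by
        intro v hv hv1 hvt hne hk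
        obtain ⟨-, -, -, k3, -⟩ := hH.torusK_facts hv hv1 hvt hne
        have := k3 P.mod_eight
        have := P.big
        omega)
      exact real_of_dvd hH P f hfpf hp hp3 hd2

end Cfsg.Agent.H72.PiHom
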